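import Mathlib
import Cfsg.Agent.TwoRegularSizes.Semireg
import Cfsg.Agent.TwoRegularSizes.Facts

/-!
A group with actions on two abelian groups of prime-power orders (different primes), free outside
a fixed subgroup, is not divisible by both primes.
-/

set_option autoImplicit false
set_option linter.unusedSectionVars false

namespace CfsgLib.ThreeClassSizes

open Subgroup CfsgLib.TwoRegularSizes

/-- An action on an abelian `a`-group with fixed points of every nontrivial element exactly `M₀`. -/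
structure FreeMod {W M : Type*} [Group W] [CommGroup M] (φ : W →* MulAut M) (M₀ : Subgroup M)
    (a : ℕ) : Prop where
  prime : a.Prime
  pgroup : IsPGroup a M
  fixed : ∀ w, ∀ x ∈ M₀, φ w x = x
  free : ∀ w, w ≠ 1 → ∀ x, φ w x = x → x ∈ M₀
  proper : ∃ x, x ∉ M₀

variable {W M : Type*} [Group W] [Finite W] [CommGroup M] [Finite M] {φ : W →* MulAut M}
  {M₀ : Subgroup M} {a : ℕ}

theorem FreeMod.coprime (h : FreeMod φ M₀ a) (x : M) {n : ℕ} (hn : a.Coprime n) :
    (orderOf x).Coprime n := by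
  obtain ⟨k, hk⟩ := h.pgroup x
  exact PE.coprime ⟨k, hk⟩ hn

theorem FreeMod.pair (h : FreeMod φ M₀ a) {p : ℕ} (hp : p.Prime) (hpa : p ≠ a) {u v : W}
    (hu : orderOf u = p) (hv : orderOf v = p) (hc : Commute v u) : v ∈ zpowers u := by
  by_contra hvu
  obtain ⟨x, hx⟩ := h.proper
  refine (pair_aux φ M₀ h.free hp hp (fun y hy => ?_) hx hu hv ?_ hvu).1 rfl
  · exact mem_of_pow_mem (h.coprime y ((Nat.coprime_primes h.prime hp).2 hpa.symm)) hy
  · rw [hc.eq, mul_inv_cancel_right]
    exact mem_zpowers u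

/-- A normal subgroup of prime-power order avoiding the prime forces the group to avoid it. -/
theorem FreeMod.false_of_normal (h : FreeMod φ M₀ a) (ha : a ∣ Nat.card W) {K : Subgroup W}
    [K.Normal] (hK : K ≠ ⊥) (hco : a.Coprime (Nat.card K)) : False := by
  classical
  have := Fact.mk h.prime
  have := Fintype.ofFinite K
  let ν : M →* M := ∏ x : K, (φ (x : W)).toMonoidHom
  have hν : ∀ m, ν m = ∏ x : K, φ (x : W) m := fun m => MonoidHom.finsetProd_apply _ _ _
  obtain ⟨⟨x₀, hx₀⟩, hx₀1⟩ : ∃ x : K, x ≠ 1 := by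
    have : Nontrivial K := (nontrivial_iff_ne_bot K).2 hK
    exact exists_ne 1
  have hνM : ∀ m, ν m ∈ M₀ := by
    intro m
    refine h.free x₀ (fun e => hx₀1 (Subtype.ext e)) _ ?_
    rw [hν, map_prod]
    refine Fintype.prod_equiv (Equiv.mulLeft (⟨x₀, hx₀⟩ : K)) _ _ fun x => ?_
    rw [Equiv.coe_mulLeft, Subgroup.coe_mul, map_mul]
    rfl
  have hinv : ∀ (w : W) m, ν m = 1 → ν (φ w m) = 1 := by
    intro w m hm
    have : ν (φ w m) = φ w (ν m) := by
      rw [hν, hν, map_prod]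
      refine Fintype.prod_equiv (MulAut.conjNormal w⁻¹ : K ≃* K).toEquiv _ _ fun x => ?_
      have e : ((MulAut.conjNormal w⁻¹ x : K) : W) = w⁻¹ * x * w := by
        rw [MulAut.conjNormal_apply, inv_inv]
      show φ (x : W) (φ w m) = φ w (φ ((MulAut.conjNormal w⁻¹ x : K) : W) m)
      rw [← MulAut.mul_apply, ← MulAut.mul_apply, ← map_mul, ← map_mul, e]
      congr 2
      group
    rw [this, hm, map_one]
  -- the kernel of the norm meets `M₀` trivially and is nontrivial
  have hmeet : ∀ z ∈ M₀, ν z = 1 → z = 1 := by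
    intro z hz hz1
    rw [hν, Finset.prod_congr rfl (fun (x : K) _ => h.fixed x z hz), Finset.prod_const,
      Finset.card_univ, ← Nat.card_eq_fintype_card] at hz1
    exact orderOf_eq_one_iff.1
      (Nat.Coprime.eq_one_of_dvd (h.coprime z hco) (orderOf_dvd_of_pow_eq_one hz1))
  have hker : ν.ker ≠ ⊥ := by
    intro hb
    have hinj := (MonoidHom.ker_eq_bot_iff ν).1 hb
    have hle : Nat.card M ≤ Nat.card M₀ := Nat.card_le_card_of_injective
      (fun m => (⟨ν m, hνM m⟩ : M₀)) fun x y e => hinj (congrArg Subtype.val e)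
    obtain ⟨x, hx⟩ := h.proper
    exact hx (((card_eq_iff_eq_top M₀).1 (le_antisymm (card_le_card_group _) hle)) ▸ mem_top x)
  obtain ⟨g, hg⟩ := exists_prime_orderOf_dvd_card' a ha
  let _ : MulAction (zpowers g) ν.ker :=
    { smul := fun w m => ⟨φ (w : W) m, hinv _ _ m.2⟩
      one_smul := fun m => Subtype.ext (by show φ 1 (m : M) = m; rw [map_one]; rfl)
      mul_smul := fun v w m => Subtype.ext (by
        show φ ((v * w : zpowers g) : W) (m : M) = φ (v : W) (φ (w : W) m)
        rw [Subgroup.coe_mul, map_mul]; rfl) }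
  have hP : IsPGroup a (zpowers g) := IsPGroup.of_card (n := 1) (by
    rw [Nat.card_zpowers, hg, pow_one])
  have hone : (1 : ν.ker) ∈ MulAction.fixedPoints (zpowers g) ν.ker := fun w =>
    Subtype.ext (map_one (φ (w : W)))
  obtain ⟨n, hn⟩ := (h.pgroup.to_subgroup ν.ker).exists_card_eq
  have hn0 : n ≠ 0 := fun h0 => hker (Subgroup.eq_bot_of_card_eq _ (by rw [hn, h0, pow_zero]))
  obtain ⟨b, hb, hb1⟩ := hP.exists_fixed_point_of_prime_dvd_card_of_fixed_point (α := ν.ker)
    (hn ▸ dvd_pow_self a hn0) hone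
  refine hb1 (Subtype.ext ?_).symm
  refine hmeet b (h.free g (fun e => h.prime.ne_one (by rw [← hg, e, orderOf_one])) _ ?_) b.2
  exact congrArg Subtype.val (hb ⟨g, mem_zpowers g⟩)

/-- The elements acting trivially modulo `M₀`. -/
theorem FreeMod.exists_normal_of_even (h : FreeMod φ M₀ a) (h2 : 2 ∣ Nat.card W) :
    ∃ (ℓ : ℕ) (K : Subgroup W), ℓ.Prime ∧ K.Normal ∧ IsPGroup ℓ K ∧ K ≠ ⊥ := by
  classical
  have := Fact.mk h.prime
  have := Fact.mk Nat.prime_two
  let K : Subgroup W :=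
    { carrier := {w | ∀ m, φ w m * m⁻¹ ∈ M₀}
      one_mem' := fun m => by
        show φ 1 m * m⁻¹ ∈ M₀
        rw [map_one]
        simp
      mul_mem' := fun {v w} hv hw m => by
        show φ (v * w) m * m⁻¹ ∈ M₀
        have e : φ (v * w) m * m⁻¹ = φ v (φ w m * m⁻¹) * (φ v m * m⁻¹) := by
          rw [map_mul φ, MulAut.mul_apply, map_mul (φ v), map_inv]
          group
        rw [e, h.fixed v _ (hw m)]
        exact mul_mem (hw m) (hv m)
      inv_mem' := fun {w} hw m => by
        show φ w⁻¹ m * m⁻¹ ∈ M₀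
        have e := inv_mem (hw (φ w⁻¹ m))
        rw [← MulAut.mul_apply, ← map_mul, mul_inv_cancel, map_one, MulAut.one_apply, mul_inv_rev,
          inv_inv] at e
        exact e }
  have hKmem : ∀ w, w ∈ K ↔ ∀ m, φ w m * m⁻¹ ∈ M₀ := fun _ => Iff.rfl
  have hKn : K.Normal := ⟨fun x hx w m => by
    have e : φ (w * x * w⁻¹) m * m⁻¹ = φ w (φ x (φ w⁻¹ m) * (φ w⁻¹ m)⁻¹) := by
      rw [map_mul (φ w), map_inv (φ w), ← MulAut.mul_apply, ← MulAut.mul_apply, ← MulAut.mul_apply,
        ← map_mul, ← map_mul, ← map_mul, mul_inv_cancel, map_one, MulAut.one_apply, mul_assoc]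
    rw [e, h.fixed w _ ((hKmem x).1 hx _)]
    exact hx _⟩
  have hKp : IsPGroup a K := by
    rintro ⟨x, hx⟩
    refine ⟨(orderOf x).factorization a, Subtype.ext ?_⟩
    show x ^ a ^ (orderOf x).factorization a = 1
    by_contra hy
    set y := x ^ a ^ (orderOf x).factorization a with hydef
    have hyK : y ∈ K := pow_mem hx _
    have hco : a.Coprime (orderOf y) := by
      rw [hydef, orderOf_pow, Nat.gcd_eq_right (Nat.ordProj_dvd _ _)]
      exact Nat.coprime_ordCompl h.prime (orderOf_pos x).ne'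
    obtain ⟨m, hm⟩ := h.proper
    obtain ⟨z, hz⟩ : ∃ z, z = φ y m * m⁻¹ := ⟨_, rfl⟩
    have hzM : z ∈ M₀ := hz ▸ hyK m
    have hj : ∀ j : ℕ, φ (y ^ j) m = z ^ j * m := by
      intro j
      induction j with
      | zero => rw [pow_zero, pow_zero, map_one, one_mul]; rfl
      | succ j ih =>
        rw [pow_succ', map_mul, MulAut.mul_apply, ih, map_mul, h.fixed y _ (pow_mem hzM j),
          pow_succ, mul_assoc, hz, inv_mul_cancel_right]
    have h1 := hj (orderOf y)
    rw [pow_orderOf_eq_one, map_one, MulAut.one_apply] at h1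
    have hz1 : z = 1 := orderOf_eq_one_iff.1 (Nat.Coprime.eq_one_of_dvd (h.coprime z hco)
      (orderOf_dvd_of_pow_eq_one (mul_eq_right.1 h1.symm)))
    refine hm (h.free y hy m ?_)
    rw [hz, mul_inv_eq_one] at hz1
    exact hz1
  by_cases hKb : K = ⊥
  swap
  · exact ⟨a, K, h.prime, hKn, hKp, hKb⟩
  -- the involution is unique
  have hinv : ∀ (i : W), orderOf i = 2 → ∀ m, φ i m * m ∈ M₀ := by
    intro i hi m
    refine h.free i (fun e => by rw [e, orderOf_one] at hi; omega) _ ?_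
    rw [map_mul, ← MulAut.mul_apply, ← map_mul, ← pow_two, ← hi, pow_orderOf_eq_one, map_one,
      MulAut.one_apply, mul_comm]
  have huniq : ∀ i j : W, orderOf i = 2 → orderOf j = 2 → i = j := by
    intro i j hi hj
    have hij : i * j ∈ K := by
      intro m
      show φ (i * j) m * m⁻¹ ∈ M₀
      have e : φ (i * j) m * m⁻¹ = φ i (φ j m * m) * (φ i m * m)⁻¹ := by
        rw [map_mul φ, MulAut.mul_apply, map_mul (φ i), mul_inv, ← mul_assoc, mul_inv_cancel_right]
      rw [e, h.fixed i _ (hinv j hj m)]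
      exact mul_mem (hinv j hj m) (inv_mem (hinv i hi m))
    rw [hKb, mem_bot, mul_eq_one_iff_inv_eq] at hij
    rw [← hij]
    exact eq_inv_of_mul_eq_one_left (by rw [← pow_two, ← hi, pow_orderOf_eq_one])
  obtain ⟨i, hi⟩ := exists_prime_orderOf_dvd_card' 2 h2
  have hc : ∀ w, w * i * w⁻¹ = i := fun w =>
    huniq _ _ (by rw [← MulAut.conj_apply, MulEquiv.orderOf_eq, hi]) hi
  refine ⟨2, zpowers i, Nat.prime_two, ⟨fun x hx w => ?_⟩,
    IsPGroup.of_card (n := 1) (by rw [Nat.card_zpowers, hi, pow_one]), fun e => ?_⟩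
  · obtain ⟨n, rfl⟩ := mem_zpowers_iff.1 hx
    rw [← conj_zpow, hc]
    exact hx
  · rw [zpowers_eq_bot] at e
    rw [e, orderOf_one] at hi
    omega

variable {M' : Type*} [CommGroup M'] [Finite M'] {φ' : W →* MulAut M'} {M₀' : Subgroup M'} {b : ℕ}

theorem exists_normal_pGroup (h : FreeMod φ M₀ a) (h' : FreeMod φ' M₀' b) (hab : a ≠ b)
    [Nontrivial W] : ∃ (ℓ : ℕ) (K : Subgroup W), ℓ.Prime ∧ K.Normal ∧ IsPGroup ℓ K ∧ K ≠ ⊥ := by
  by_cases h2 : 2 ∣ Nat.card W
  · exact h.exists_normal_of_even h2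
  have hcyc : ∀ ℓ : ℕ, ℓ.Prime → ∀ P : Sylow ℓ W, IsCyclic P := by
    intro ℓ hℓ P
    have := Fact.mk hℓ
    by_cases hd : ℓ ∣ Nat.card W
    swap
    · have hb : (P : Subgroup W) = ⊥ := Subgroup.eq_bot_of_card_eq _ (by
        rw [P.card_eq_multiplicity, Nat.factorization_eq_zero_of_not_dvd hd, pow_zero])
      have : Subsingleton (P : Subgroup W) := by rw [hb]; infer_instance
      exact isCyclic_of_subsingleton
    have hodd : ℓ ≠ 2 := fun e => h2 (e ▸ hd)
    have hpair : ∀ u v : W, orderOf u = ℓ → orderOf v = ℓ → Commute v u → v ∈ zpowers u := by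
      intro u v hu hv hc
      by_cases hla : ℓ = a
      · exact h'.pair hℓ (fun e => hab (hla.symm.trans e)) hu hv hc
      · exact h.pair hℓ hla hu hv hc
    refine FrobComp.isCyclic_of_uniqueOrderP P.isPGroup' ?_ (Or.inr hodd)
    intro x y hx hy hx1
    have : Nontrivial P := ⟨⟨x, 1, hx1⟩⟩
    have := P.isPGroup'.center_nontrivial
    obtain ⟨z, hz⟩ := exists_prime_orderOf_dvd_card' (G := center P) ℓ (by
      obtain ⟨n, hn⟩ := (P.isPGroup'.to_subgroup (center P)).exists_card_eq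
      rw [hn]
      refine dvd_pow_self ℓ fun h0 => ?_
      rw [h0, pow_zero] at hn
      exact (Finite.one_lt_card (α := center P)).ne' hn)
    have hzo : orderOf ((z : P) : W) = ℓ := by rw [Subgroup.orderOf_coe, Subgroup.orderOf_coe, hz]
    have hmem : ∀ w : P, w ^ ℓ = 1 → (w : W) ∈ zpowers ((z : P) : W) := by
      intro w hw
      by_cases hw1 : w = 1
      · subst hw1; exact one_mem _
      · refine hpair _ _ hzo ?_ ?_
        · rw [Subgroup.orderOf_coe, orderOf_eq_prime hw hw1]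
        · exact congrArg Subtype.val (mem_center_iff.1 z.2 w)
    have hxz : zpowers (x : W) = zpowers ((z : P) : W) :=
      Subgroup.eq_of_le_of_card_ge (zpowers_le.2 (hmem x hx)) (by
        rw [Nat.card_zpowers, Nat.card_zpowers, hzo, Subgroup.orderOf_coe, orderOf_eq_prime hx hx1])
    obtain ⟨n, hn⟩ := mem_zpowers_iff.1 (hxz ▸ hmem y hy)
    exact mem_zpowers_iff.2 ⟨n, Subtype.ext (by simpa using hn)⟩
  have : IsZGroup W := (isZGroup_iff W).2 fun ℓ hℓ P => hcyc ℓ hℓ P
  have hF := Solvable.fittingSubgroup_ne_bot (G := W)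
  obtain ⟨ℓ, hℓ, hd⟩ := Nat.exists_prime_and_dvd (n := Nat.card (Cfsg.fittingSubgroup W))
    (fun e => hF (Subgroup.eq_bot_of_card_eq _ e))
  have := Fact.mk hℓ
  obtain ⟨t, ht⟩ := exists_prime_orderOf_dvd_card' ℓ hd
  have hto : orderOf (t : W) = ℓ := by rw [Subgroup.orderOf_coe, ht]
  have htc : (t : W) ∈ Cfsg.pCore ℓ W :=
    FittingLength.mem_pCore_of_mem_fittingSubgroup t.2 (k := 1)
      (by rw [pow_one, ← hto, pow_orderOf_eq_one])
  refine ⟨ℓ, _, hℓ, Solvable.pCore_normal ℓ, Solvable.isPGroup_pCore ℓ, fun e => ?_⟩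
  rw [e, mem_bot] at htc
  rw [htc, orderOf_one] at hto
  exact hℓ.ne_one hto.symm

/-- The group is not divisible by both primes. -/
theorem false_of_two_actions (h : FreeMod φ M₀ a) (h' : FreeMod φ' M₀' b) (hab : a ≠ b)
    (hadvd : a ∣ Nat.card W) (hbdvd : b ∣ Nat.card W) : False := by
  have := Fact.mk h.prime
  obtain ⟨g, hg⟩ := exists_prime_orderOf_dvd_card' a hadvd
  have : Nontrivial W := ⟨g, 1, fun e => h.prime.ne_one (by rw [← hg, e, orderOf_one])⟩
  obtain ⟨ℓ, K, hℓ, hKn, hKp, hKb⟩ := exists_normal_pGroup h h' hab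
  have := Fact.mk hℓ
  obtain ⟨n, hn⟩ := hKp.exists_card_eq
  by_cases hla : ℓ = a
  · refine h'.false_of_normal hbdvd hKb ?_
    rw [hn]
    exact ((Nat.coprime_primes h'.prime hℓ).2 fun e => hab (hla.symm.trans e.symm)).pow_right n
  · refine h.false_of_normal hadvd hKb ?_
    rw [hn]
    exact ((Nat.coprime_primes h.prime hℓ).2 (Ne.symm hla)).pow_right n

end CfsgLib.ThreeClassSizes
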