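import Mathlib
import Cfsg.Agent.TwoRegularSizes.Facts
import Cfsg.Agent.ThreeClassSizes.Actions
import Cfsg.Agent.Transfer.Alperin

/-!
Groups in which the elements of prime-power order prime to `r` in the centraliser of such a
noncentral element are central there.
-/

set_option autoImplicit false
set_option linter.unusedSectionVars false

namespace CfsgLib.ThreeClassSizes

open Subgroup CfsgLib.TwoRegularSizes

variable {G : Type*} [Group G] [Finite G]

/-- The prime `t` has a noncentral element of `t`-power order. -/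
def Pr (G : Type*) [Group G] (t : ℕ) : Prop := t.Prime ∧ ∃ x : G, PE t x ∧ x ∉ center G

/-- The exponent of `t` in the order of the centraliser of `x`. -/
noncomputable def cexp (t : ℕ) (x : G) : ℕ :=
  (Nat.card (centralizer ({x} : Set G))).factorization t

/-- The exponent of `t` in the order of the centre. -/
noncomputable def zexp (G : Type*) [Group G] (t : ℕ) : ℕ := (Nat.card (center G)).factorization t

theorem conj_cent (g y : G) :
    centralizer ({g * y * g⁻¹} : Set G) = (centralizer ({y} : Set G)).map (MulAut.conj g).toMonoidHom := by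
  ext c
  rw [mem_map, mem_cent]
  constructor
  · intro hc
    refine ⟨g⁻¹ * c * g, mem_cent.2 ?_, by simp [mul_assoc]⟩
    have h1 := hc.map (MulAut.conj g⁻¹).toMonoidHom
    simpa [mul_assoc] using h1
  · rintro ⟨d, hd, rfl⟩
    exact (mem_cent.1 hd).map (MulAut.conj g).toMonoidHom

theorem mem_normalizer_of_cent_eq {g y : G}
    (h : centralizer ({g * y * g⁻¹} : Set G) = centralizer ({y} : Set G)) :
    g ∈ normalizer (centralizer ({y} : Set G) : Set G) := by
  rw [mem_normalizer_iff]
  intro c
  rw [conj_cent] at h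
  conv_rhs => rw [← h]
  rw [mem_map]
  constructor
  · exact fun hc => ⟨c, hc, rfl⟩
  · rintro ⟨d, hd, e⟩
    have : d = c := (MulAut.conj g).injective e
    exact this ▸ hd

/-- A noncentral element has a noncentral power of prime-power order. -/
theorem le_of_forall_pe {H K : Subgroup G}
    (h : ∀ p : ℕ, p.Prime → ∀ x ∈ H, PE p x → x ∈ K) : H ≤ K := by
  rw [← subgroupOf_eq_top, ← index_eq_one]
  by_contra hne
  obtain ⟨p, hp, hd⟩ := Nat.exists_prime_and_dvd hne
  have := Fact.mk hp
  obtain ⟨S⟩ : Nonempty (Sylow p H) := inferInstance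
  exact S.not_dvd_index (hd.trans (index_dvd_of_le fun x hx =>
    h p hp x x.2 ((PE.of_isPGroup S.isPGroup' hx).map H.subtype)))

theorem exists_primary {y : G} (hy : y ∉ center G) :
    ∃ (p : ℕ) (y' : G), p.Prime ∧ PE p y' ∧ y' ∉ center G ∧ y' ∈ zpowers y := by
  by_contra hne
  push Not at hne
  exact hy (le_of_forall_pe (H := zpowers y)
    (fun p hp x hx hpe => by_contra fun hxZ => hne p x hp hpe hxZ hx) (mem_zpowers y))

theorem cent_le_of_mem_zpowers {x y : G} (h : y ∈ zpowers x) :
    centralizer ({x} : Set G) ≤ centralizer ({y} : Set G) := fun c hc => by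
  obtain ⟨n, rfl⟩ := mem_zpowers_iff.1 h
  exact mem_cent.2 ((mem_cent.1 hc).zpow_right n)

theorem zexp_le_cexp {t : ℕ} (ht : t.Prime) (x : G) : zexp G t ≤ cexp t x :=
  (ht.pow_dvd_iff_le_factorization Nat.card_pos.ne').1
    ((Nat.ordProj_dvd _ _).trans (card_dvd_of_le (center_le_cent x)))

theorem cexp_le {t : ℕ} (ht : t.Prime) (x : G) : cexp t x ≤ (Nat.card G).factorization t :=
  (ht.pow_dvd_iff_le_factorization Nat.card_pos.ne').1
    ((Nat.ordProj_dvd _ _).trans (card_subgroup_dvd_card _))

theorem zexp_lt_of_mem {t : ℕ} (ht : t.Prime) {x y : G} (hy : y ∈ centralizer ({x} : Set G))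
    (hye : PE t y) (hyZ : y ∉ center G) : zexp G t < cexp t x :=
  lt_of_exists_pe ht (center_le_cent x) hy hye hyZ

theorem pr_of_cexp_lt {t : ℕ} (ht : t.Prime) {x : G} (h : cexp t x < (Nat.card G).factorization t) :
    Pr G t := by
  refine ⟨ht, ?_⟩
  obtain ⟨y, -, hy, hyZ⟩ := exists_pe_of_lt (H := (⊤ : Subgroup G)) ht (by
    rw [card_top]
    exact (zexp_le_cexp ht x).trans_lt h)
  exact ⟨y, hy, hyZ⟩

/-- A noncentral element of prime-power order centralising such an element is central in its
centraliser (the orders being prime to `r`). -/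
def Local (G : Type*) [Group G] (r : ℕ) : Prop :=
  ∀ ⦃p : ℕ⦄ ⦃v : G⦄, p.Prime → p ≠ r → PE p v → v ∉ center G →
    ∀ ⦃s : ℕ⦄ ⦃y : G⦄, s.Prime → s ≠ r → PE s y → Commute v y →
      centralizer ({v} : Set G) ≤ centralizer ({y} : Set G)

variable {r : ℕ} (hL : Local G r)

include hL

theorem Local.cent_eq {p s : ℕ} {v y : G} (hp : p.Prime) (hpr : p ≠ r) (hv : PE p v)
    (hvZ : v ∉ center G) (hs : s.Prime) (hsr : s ≠ r) (hy : PE s y) (hyZ : y ∉ center G)
    (hc : Commute v y) : centralizer ({v} : Set G) = centralizer ({y} : Set G) :=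
  le_antisymm (hL hp hpr hv hvZ hs hsr hy hc) (hL hs hsr hy hyZ hp hpr hv hc.symm)

theorem Local.nice {p : ℕ} {v : G} (hp : p.Prime) (hpr : p ≠ r) (hv : PE p v)
    (hvZ : v ∉ center G) : Nice r v := fun _ _ _ hu hur hy hyc hz =>
  (mem_cent.1 (hL hp hpr hv hvZ hu hur hy (mem_cent.1 hyc).symm hz)).symm

/-- A deficient prime gives an element normalising but not in the centraliser. -/
theorem Local.exists_mem_normalizer {p t : ℕ} {v : G} (hp : p.Prime) (hpr : p ≠ r) (hv : PE p v)
    (hvZ : v ∉ center G) (ht : t.Prime) (htr : t ≠ r) (hsup : zexp G t < cexp t v)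
    (hdef : cexp t v < (Nat.card G).factorization t) :
    ∃ g, PE t g ∧ g ∈ normalizer (centralizer ({v} : Set G) : Set G) ∧
      g ∉ centralizer ({v} : Set G) := by
  have := Fact.mk ht
  have hn := hL.nice hp hpr hv hvZ
  set C := centralizer ({v} : Set G) with hC
  set S := part t v with hS
  have hScard : Nat.card S = t ^ cexp t v := card_part ht htr hn
  have hSp : IsPGroup t S := isPGroup_part ht htr hn
  obtain ⟨T, hT⟩ := hSp.exists_le_sylow
  have hlt : S < (T : Subgroup G) := lt_of_le_of_ne hT fun e => by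
    have h1 := T.card_eq_multiplicity
    rw [← e, hScard] at h1
    exact hdef.ne (Nat.pow_right_injective ht.two_le h1)
  obtain ⟨g, hg, hgS⟩ := SetLike.exists_of_lt (CfsgLib.Transfer.lt_inf_normalizer T.isPGroup' hlt)
  obtain ⟨hgT, hgN⟩ := mem_inf.1 hg
  obtain ⟨y, hyC, hye, hyZ⟩ := exists_pe_of_lt (H := C) ht hsup
  have hyS : y ∈ S := (mem_part ht htr hn).2 ⟨hyC, hye⟩
  have hCy : C = centralizer ({y} : Set G) :=
    hL.cent_eq hp hpr hv hvZ ht htr hye hyZ (mem_cent.1 hyC).symm
  have hgy := (mem_part ht htr hn).1 ((mem_normalizer_iff.1 hgN y).1 hyS)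
  have hgyZ : g * y * g⁻¹ ∉ center G := fun hz => hyZ (by
    simpa [mul_assoc] using Subgroup.Normal.conj_mem inferInstance _ hz g⁻¹)
  refine ⟨g, PE.of_isPGroup T.isPGroup' hgT, ?_, fun hgC => ?_⟩
  · rw [hCy]
    exact mem_normalizer_of_cent_eq ((hL.cent_eq hp hpr hv hvZ ht htr hgy.2 hgyZ
      (mem_cent.1 hgy.1).symm).symm.trans hCy)
  · exact hgS ((mem_part ht htr hn).2 ⟨hgC, PE.of_isPGroup T.isPGroup' hgT⟩)

/-- There is at most one deficient prime. -/
theorem Local.false_of_two_deficient {p t s : ℕ} {v : G} (hp : p.Prime) (hpr : p ≠ r)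
    (hv : PE p v) (hvZ : v ∉ center G) (ht : t.Prime) (htr : t ≠ r) (hs : s.Prime) (hsr : s ≠ r)
    (hts : t ≠ s) (hsupt : zexp G t < cexp t v) (hsups : zexp G s < cexp s v)
    (hdeft : cexp t v < (Nat.card G).factorization t)
    (hdefs : cexp s v < (Nat.card G).factorization s) : False := by
  have hn := hL.nice hp hpr hv hvZ
  set C := centralizer ({v} : Set G) with hC
  set N := normalizer (C : Set G) with hN
  have hCn : (C.subgroupOf N).Normal := by
    rw [normal_subgroupOf_iff_le_normalizer le_normalizer]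
  have key : ∀ (a : ℕ), a.Prime → a ≠ r → zexp G a < cexp a v →
      cexp a v < (Nat.card G).factorization a →
      ∃ (M : Type _) (_ : CommGroup M) (_ : Finite M) (φ : N ⧸ C.subgroupOf N →* MulAut M)
        (M₀ : Subgroup M), FreeMod φ M₀ a ∧ a ∣ Nat.card (N ⧸ C.subgroupOf N) := by
    intro a ha har hsup hdef
    set M := part a v with hM
    have : IsMulCommutative M := ⟨⟨fun x y => Subtype.ext
      (hn a _ _ ha har ((mem_part ha har hn).1 x.2).2 ((mem_part ha har hn).1 x.2).1
        ((mem_part ha har hn).1 y.2).1).eq⟩⟩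
    let inst : CommGroup M := { (inferInstance : Group M) with mul_comm := fun x y => mul_comm' x y }
    let f : N →* MulAut M :=
      M.normalizerMonoidHom.comp (inclusion (normalizer_cent_le_part ha har hn))
    have hfker : C.subgroupOf N ≤ f.ker := by
      intro n hn'
      have h1 : inclusion (normalizer_cent_le_part ha har hn) n ∈ M.normalizerMonoidHom.ker := by
        rw [normalizerMonoidHom_ker, mem_subgroupOf, mem_centralizer_iff]
        intro y hy
        obtain ⟨hy1, hy2⟩ := (mem_part ha har hn).1 hy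
        exact (hn a _ _ ha har hy2 hy1 hn').eq
      exact h1
    refine ⟨M, inst, inferInstance, QuotientGroup.lift _ f hfker, (center G).subgroupOf M, ⟨ha, isPGroup_part ha har hn, ?_, ?_, ?_⟩, ?_⟩
    · intro w x hx
      induction w using QuotientGroup.induction_on with
      | H n =>
        refine Subtype.ext ?_
        show (n : G) * x * (n : G)⁻¹ = x
        rw [mem_center_iff.1 (mem_subgroupOf.1 hx) n, mul_inv_cancel_right]
    · intro w hw x hx
      induction w using QuotientGroup.induction_on with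
      | H n =>
        by_contra hxZ
        have hxe := (mem_part ha har hn).1 x.2
        have he := hL.cent_eq hp hpr hv hvZ ha har hxe.2 hxZ (mem_cent.1 hxe.1).symm
        refine hw ((QuotientGroup.eq_one_iff n).2 ?_)
        rw [mem_subgroupOf]
        show (n : G) ∈ centralizer ({v} : Set G)
        rw [he, mem_cent]
        have hx' : (n : G) * x * (n : G)⁻¹ = x := congrArg Subtype.val hx
        exact mul_inv_eq_iff_eq_mul.1 hx'
    · obtain ⟨y, hy, hye, hyZ⟩ := exists_pe_of_lt (H := C) ha hsup
      exact ⟨⟨y, (mem_part ha har hn).2 ⟨hy, hye⟩⟩, fun h => hyZ (mem_subgroupOf.1 h)⟩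
    · obtain ⟨g, hge, hgN, hgC⟩ := hL.exists_mem_normalizer hp hpr hv hvZ ha har hsup hdef
      obtain ⟨k, hk⟩ := (hge.map (MonoidHom.id G))
      by_contra hd
      refine hgC (mem_subgroupOf.1 ((QuotientGroup.eq_one_iff (⟨g, hgN⟩ : N)).1 ?_))
      refine orderOf_eq_one_iff.1 (Nat.eq_one_of_dvd_coprimes
        ((ha.coprime_iff_not_dvd.2 hd).pow_left k) (orderOf_dvd_of_pow_eq_one ?_)
        (orderOf_dvd_natCard _))
      rw [← QuotientGroup.mk_pow]
      exact (QuotientGroup.eq_one_iff _).2 (by
        have : (⟨g, hgN⟩ : N) ^ a ^ k = 1 := Subtype.ext (by simpa using hk)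
        rw [this]; exact one_mem _)
  obtain ⟨M, i, iF, φ, M₀, hφ, hd⟩ := key t ht htr hsupt hdeft
  obtain ⟨M', i', iF', φ', M₀', hφ', hd'⟩ := key s hs hsr hsups hdefs
  exact false_of_two_actions hφ hφ' hts hd hd'

/-- The centraliser is nilpotent. -/
theorem Local.isNilpotent_cent (hr : r.Prime) {p : ℕ} {v : G} (hp : p.Prime) (hpr : p ≠ r)
    (hv : PE p v) (hvZ : v ∉ center G) : Group.IsNilpotent (centralizer ({v} : Set G)) := by
  have := Fact.mk hr
  have hn := hL.nice hp hpr hv hvZ
  set C := centralizer ({v} : Set G)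
  have hidx : ∀ d : ℕ, d.Prime → d ∣ (center C).index → d = r := by
    intro d hd hdd
    by_contra hdr
    have := Fact.mk hd
    obtain ⟨S⟩ : Nonempty (Sylow d C) := inferInstance
    refine S.not_dvd_index (hdd.trans (index_dvd_of_le fun x hx => mem_center_iff.2 fun g => ?_))
    exact Subtype.ext (hn d x g hd hdr ((PE.of_isPGroup S.isPGroup' hx).map C.subtype) x.2 g.2).eq.symm
  have hq : IsPGroup r (C ⧸ center C) := IsPGroup.of_card (n := (center C).index.primeFactorsList.length) (by
    rw [← index_eq_card]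
    exact Nat.eq_prime_pow_of_unique_prime_dvd index_ne_zero_of_finite fun {d} hd hdd => hidx d hd hdd)
  have := hq.isNilpotent
  exact Subgroup.isNilpotent_of_ker_le_center (QuotientGroup.mk' (center C))
    (by rw [QuotientGroup.ker_mk'])

end CfsgLib.ThreeClassSizes
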