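import Mathlib
import Cfsg.Agent.ThreeClassSizes.Local
import Cfsg.Agent.PrimePowerClass.Main
import Cfsg.Agent.FittingLength.Basic
import Cfsg.Agent.Factorizations.KegelWielandt
import Cfsg.Agent.PrimeOrders.Basic

/-!
Solvability when the centralisers of noncentral elements of prime-power order prime to `r` all have
the same `r'`-part, central in them.
-/

set_option autoImplicit false
set_option linter.unusedSectionVars false

namespace CfsgLib.ThreeClassSizes

open Subgroup CfsgLib.TwoRegularSizes Cfsg
open scoped Pointwise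

variable {G : Type*} [Group G] [Finite G]

theorem isSolvable_comap {H : Type*} [Group H] (f : G →* H) (hk : Group.IsSolvable f.ker)
    (K : Subgroup H) (hK : Group.IsSolvable K) : Group.IsSolvable (K.comap f) := by
  let g : K.comap f →* K := (f.comp (K.comap f).subtype).codRestrict K fun x => x.2
  let i : f.ker →* K.comap f := inclusion fun x (hx : f x = 1) =>
    show f x ∈ K by rw [hx]; exact one_mem _
  refine Group.isSolvable_of_ker_le_range i g fun x hx => ?_
  exact ⟨⟨x, congrArg Subtype.val hx⟩, rfl⟩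

theorem factors_of_coprime_index {A B : Subgroup G} (h : A.index.Coprime B.index) :
    Factorizations.Factors A B := by
  have hI : A.index * B.index ≤ (A ⊓ B).index := Nat.le_of_dvd
    (Nat.pos_of_ne_zero index_ne_zero_of_finite)
    (h.mul_dvd_of_dvd_of_dvd (index_dvd_of_le inf_le_left) (index_dvd_of_le inf_le_right))
  set S := ((A : Set G) * (B : Set G) : Set G)
  have h1 := Factorizations.card_mul_eq A B
  have h2 : Nat.card G ≤ Nat.card S := by
    refine Nat.le_of_mul_le_mul_right ?_ (Nat.card_pos (α := (A ⊓ B : Subgroup G)))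
    refine Nat.le_of_mul_le_mul_right ?_ (Nat.mul_pos (Nat.pos_of_ne_zero (index_ne_zero_of_finite (H := A)))
      (Nat.pos_of_ne_zero (index_ne_zero_of_finite (H := B))))
    calc Nat.card G * Nat.card (A ⊓ B : Subgroup G) * (A.index * B.index)
        ≤ Nat.card G * Nat.card (A ⊓ B : Subgroup G) * (A ⊓ B).index := Nat.mul_le_mul_left _ hI
      _ = (Nat.card A * A.index) * (Nat.card B * B.index) := by
        rw [mul_assoc, card_mul_index, card_mul_index, card_mul_index]
      _ = Nat.card S * Nat.card (A ⊓ B : Subgroup G) * (A.index * B.index) := by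
        rw [h1]; ring
  intro g
  have hS : S = Set.univ := by
    refine Set.eq_of_subset_of_ncard_le (Set.subset_univ _) ?_
    rwa [Set.ncard_univ, ← Nat.card_coe_set_eq]
  obtain ⟨a, ha, b, hb, e⟩ := (hS ▸ Set.mem_univ g : g ∈ S)
  exact ⟨a, ha, b, hb, e.symm⟩

/-- The trace of a Sylow subgroup on a normal subgroup has full `t`-part. -/
theorem exists_sylow_inf {t : ℕ} [Fact t.Prime] (T : Sylow t G) (P : Subgroup G) [P.Normal] :
    ∃ S : Sylow t P, (S : Subgroup P).map P.subtype = (T : Subgroup G) ⊓ P := by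
  have ht : t.Prime := Fact.out
  have hp : IsPGroup t (((T : Subgroup G) ⊓ P).subgroupOf P) :=
    (T.isPGroup'.to_le inf_le_left).comap_of_injective _ P.subtype_injective
  set A := (T : Subgroup G) ⊓ P with hA
  have hidx : ¬ t ∣ (A.subgroupOf P).index := by
    intro hd
    change t ∣ A.relIndex P at hd
    have h1 : Nat.card A * A.relIndex P = Nat.card P := PLocal.card_mul_relIndex inf_le_right
    have h2 : Nat.card A * P.relIndex T = Nat.card T := by
      rw [← inf_relIndex_left (T : Subgroup G) P]
      exact PLocal.card_mul_relIndex inf_le_left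
    obtain ⟨e, he⟩ := (T.isPGroup'.to_le (inf_le_left : A ≤ T)).exists_card_eq
    have hTd : P.relIndex T ∣ P.index := relIndex_dvd_index_of_normal P _
    have hR0 : P.relIndex T ≠ 0 := fun h0 => by
      rw [h0, mul_zero] at h2
      exact (Nat.card_pos (α := (T : Subgroup G))).ne h2
    have f2 := congrArg (fun n => n.factorization t) h2
    beta_reduce at f2
    rw [Nat.factorization_mul Nat.card_pos.ne' hR0, T.card_eq_multiplicity, he,
      ht.factorization_pow, ht.factorization_pow, Finsupp.add_apply, Finsupp.single_eq_same,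
      Finsupp.single_eq_same] at f2
    have f3 := (Nat.factorization_le_iff_dvd hR0 index_ne_zero_of_finite).2 hTd t
    have hA0 : A.relIndex P ≠ 0 := fun h0 => by
      rw [h0, mul_zero] at h1
      exact (Nat.card_pos (α := P)).ne h1
    have f1 := congrArg (fun n => n.factorization t) h1
    beta_reduce at f1
    rw [Nat.factorization_mul Nat.card_pos.ne' hA0, he, ht.factorization_pow, Finsupp.add_apply,
      Finsupp.single_eq_same] at f1
    have f4 := ht.factorization_pos_of_dvd hA0 hd
    have f5 := congrArg (fun n => n.factorization t) P.card_mul_index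
    beta_reduce at f5
    rw [Nat.factorization_mul Nat.card_pos.ne' index_ne_zero_of_finite, Finsupp.add_apply] at f5
    omega
  refine ⟨hp.toSylow hidx, ?_⟩
  show (A.subgroupOf P).map P.subtype = A
  rw [subgroupOf_map_subtype, inf_of_le_left inf_le_right]

variable {r : ℕ} (hL : Local G r)

include hL

theorem Local.isSolvable_of_equal (hr : r.Prime) (h2 : ∀ t, ∃ u, Pr G u ∧ u ≠ r ∧ u ≠ t)
    (hfac : ∀ ⦃p q : ℕ⦄ ⦃v w : G⦄, p.Prime → p ≠ r → PE p v → v ∉ center G →
      q.Prime → q ≠ r → PE q w → w ∉ center G → ∀ t, t.Prime → t ≠ r → cexp t v = cexp t w) :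
    Group.IsSolvable G := by
  have := Fact.mk hr
  have hsup : ∀ {p : ℕ} {v : G}, p.Prime → p ≠ r → PE p v → v ∉ center G →
      ∀ u, Pr G u → u ≠ r → zexp G u < cexp u v := by
    intro p v hp hpr hv hvZ u hu hur
    obtain ⟨w, hw, hwZ⟩ := hu.2
    rw [hfac hp hpr hv hvZ hu.1 hur hw hwZ u hu.1 hur]
    exact zexp_lt_of_mem hu.1 (mem_cent.2 (Commute.refl w)) hw hwZ
  obtain ⟨p, ⟨hp, v, hv, hvZ⟩, hpr, -⟩ := h2 0
  have hindex : ∀ (x : G) (d : ℕ), d.Prime → d ∣ (centralizer ({x} : Set G)).index →
      cexp d x < (Nat.card G).factorization d := by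
    intro x d hd hdd
    rw [cexp, ← (centralizer ({x} : Set G)).card_mul_index,
      Nat.factorization_mul Nat.card_pos.ne' index_ne_zero_of_finite, Finsupp.add_apply]
    have := hd.factorization_pos_of_dvd index_ne_zero_of_finite hdd
    omega
  by_cases hdef : ∀ t : ℕ, t.Prime → t ≠ r → (Nat.card G).factorization t ≤ cexp t v
  · obtain ⟨R⟩ : Nonempty (Sylow r G) := inferInstance
    have := hL.isNilpotent_cent hr hp hpr hv hvZ
    have := R.isPGroup'.isNilpotent
    refine Factorizations.isSolvable_of_nilpotent (factors_of_coprime_index (A := centralizer ({v} : Set G))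
      (B := (R : Subgroup G)) (Nat.coprime_of_dvd fun d hd hdA hdB => ?_))
    by_cases hdr : d = r
    · exact R.not_dvd_index (hdr ▸ hdB)
    · exact (hindex v d hd hdA).not_ge (hdef d hd hdr)
  push Not at hdef
  obtain ⟨t, ht, htr, htdef⟩ := hdef
  have := Fact.mk ht
  obtain ⟨ht', w, hw, hwZ⟩ := pr_of_cexp_lt ht htdef
  obtain ⟨T⟩ : Nonempty (Sylow t G) := inferInstance
  obtain ⟨x, hxT, hxZ, hmod⟩ := exists_central_mod (p := r) ⟨ht, htr, w, hw, hwZ⟩ T
  have hxe := PE.of_isPGroup T.isPGroup' hxT
  have hn := hL.nice ht htr hxe hxZ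
  have hfull : ∀ d : ℕ, d.Prime → d ≠ r → d ≠ t → (Nat.card G).factorization d ≤ cexp d x := by
    intro d hd hdr hdt
    by_contra hlt
    push Not at hlt
    rw [hfac hp hpr hv hvZ ht htr hxe hxZ t ht htr] at htdef
    exact hL.false_of_two_deficient ht htr hxe hxZ hd hdr ht htr hdt
      (hsup ht htr hxe hxZ d (pr_of_cexp_lt hd hlt) hdr) (hsup ht htr hxe hxZ t ⟨ht, w, hw, hwZ⟩ htr)
      hlt htdef
  set C := centralizer ({x} : Set G) with hC
  set N := normalizer (C : Set G) with hN
  have hTN : (T : Subgroup G) ≤ N := fun u hu => mem_normalizer_cent (hmod u hu)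
  have hprimes : ∀ d : ℕ, d.Prime → d ∣ C.index → d = r ∨ d = t := by
    intro d hd hdd
    by_contra hne
    push Not at hne
    exact (hindex x d hd hdd).not_ge (hfull d hd hne.1 hne.2)
  -- the quotient of `G / Z(G)` by its `r`-core
  let Zn := QuotientGroup.mk' (center G)
  have hRn : (pCore r (G ⧸ center G)).Normal := Solvable.pCore_normal r
  let π : G →* (G ⧸ center G) ⧸ pCore r (G ⧸ center G) :=
    (QuotientGroup.mk' (pCore r (G ⧸ center G))).comp Zn
  have hπ : Function.Surjective π :=
    (QuotientGroup.mk'_surjective _).comp (QuotientGroup.mk'_surjective _)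
  have hker : ∀ (d : ℕ) (y : G), d.Prime → d ≠ r → PE d y → π y = 1 → y ∈ center G := by
    intro d y hd hdr hy hy1
    have h1 : PE r (Zn y) := PE.of_isPGroup (Solvable.isPGroup_pCore r)
      ((QuotientGroup.eq_one_iff _).1 hy1)
    exact (QuotientGroup.eq_one_iff y).1 ((hy.map Zn).eq_one h1 hd hr hdr)
  have hidx : ∃ b, (centralizer ({Zn x} : Set (G ⧸ center G))).index = r ^ b := by
    refine ⟨_, Nat.eq_prime_pow_of_unique_prime_dvd index_ne_zero_of_finite fun {d} hd hdd => ?_⟩
    set H := (centralizer ({Zn x} : Set (G ⧸ center G))).comap Zn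
    rw [← index_comap_of_surjective _ (QuotientGroup.mk'_surjective _)] at hdd
    have hCH : C ≤ H := fun c hc => mem_cent.2 ((mem_cent.1 hc).map Zn)
    have hTH : (T : Subgroup G) ≤ H := by
      intro u hu
      refine mem_cent.2 ?_
      have h1 : Zn (u * x * u⁻¹ * x⁻¹) = 1 := (QuotientGroup.eq_one_iff _).2 (hmod u hu)
      rw [map_mul, map_mul, map_mul, map_inv, map_inv, mul_inv_eq_one, mul_inv_eq_iff_eq_mul] at h1
      exact h1
    rcases hprimes d hd (hdd.trans (index_dvd_of_le hCH)) with e | e
    · exact e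
    · subst e
      exact absurd (hdd.trans (index_dvd_of_le hTH)) T.not_dvd_index
  obtain ⟨b, hb⟩ := hidx
  have hπx : π x ∈ pCore t ((G ⧸ center G) ⧸ pCore r (G ⧸ center G)) := by
    obtain ⟨k, hk⟩ := hxe.map π
    refine FittingLength.mem_pCore_of_mem_fittingSubgroup ?_ (k := k) hk
    exact PrimePowerClass.mem_fitting_aux _ _ le_rfl _
      (PrimePowerClass.pPow_of_dvd (hb ▸ PrimePowerClass.index_dvd_quotient _ (Zn x)))
      (PLocal.pCore_quotient_pCore_eq_bot r _)
  set X := pCore t ((G ⧸ center G) ⧸ pCore r (G ⧸ center G)) with hX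
  have hXn : X.Normal := Solvable.pCore_normal t
  set P := X.comap π with hP
  have hPn : P.Normal := hXn.comap π
  -- the trace of `T` on `P` centralises `x`
  have hP1C : (T : Subgroup G) ⊓ P ≤ C := by
    rintro y ⟨hyT, hyP⟩
    obtain ⟨u, hu, hur, hut⟩ := h2 t
    obtain ⟨a, haC, hae, haZ⟩ := exists_pe_of_lt (H := C) hu.1 (hsup ht htr hxe hxZ u hu hur)
    have he : C = centralizer ({a} : Set G) :=
      hL.cent_eq ht htr hxe hxZ hu.1 hur hae haZ (mem_cent.1 haC).symm
    have ha' : y * a * y⁻¹ ∈ C := (mem_normalizer_iff.1 (hTN hyT) a).1 haC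
    have hc : PE u (y * a * y⁻¹ * a⁻¹) :=
      (hae.conj y).mul hae.inv (hn u _ _ hu.1 hur (hae.conj y) ha' (inv_mem haC))
    have hcX : π (y * a * y⁻¹ * a⁻¹) ∈ X := by
      rw [show y * a * y⁻¹ * a⁻¹ = y * (a * y⁻¹ * a⁻¹) by group, map_mul, map_mul π, map_mul π,
        map_inv, map_inv]
      exact mul_mem hyP (hXn.conj_mem _ (inv_mem hyP) _)
    have h1 := (hc.map π).eq_one (PE.of_isPGroup (Solvable.isPGroup_pCore t) hcX) hu.1 ht hut
    rw [he, mem_cent]
    exact (PE.of_isPGroup T.isPGroup' hyT).commute_of_central hae ht hu.1 hut.symm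
      (hker u _ hu.1 hur hc h1)
  obtain ⟨S, hS⟩ := exists_sylow_inf T P
  have hsup' := S.normalizer_sup_eq_top
  rw [hS] at hsup'
  have hNN : normalizer (((T : Subgroup G) ⊓ P : Subgroup G) : Set G) ≤ N := by
    intro g hg
    have hxP : x ∈ (T : Subgroup G) ⊓ P := ⟨hxT, hπx⟩
    have hgx := (mem_normalizer_iff.1 hg x).1 hxP
    refine mem_normalizer_of_cent_eq ?_
    refine hL.cent_eq ht htr (hxe.conj g) (fun hz => hxZ ?_) ht htr hxe hxZ (mem_cent.1 (hP1C hgx))
    simpa [mul_assoc] using Subgroup.Normal.conj_mem inferInstance _ hz g⁻¹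
  -- solvability of the two parts
  have hPsolv : Group.IsSolvable P := by
    refine isSolvable_comap π ?_ X ?_
    · have e : π.ker = (pCore r (G ⧸ center G)).comap Zn := by
        ext y
        exact QuotientGroup.eq_one_iff (Zn y)
      rw [e]
      refine isSolvable_comap Zn ?_ _ ?_
      · rw [QuotientGroup.ker_mk']
        exact Group.isSolvable_of_comm fun a b => mul_comm' a b
      · have := (Solvable.isPGroup_pCore (G := G ⧸ center G) r).isNilpotent
        infer_instance
    · have := (Solvable.isPGroup_pCore (G := (G ⧸ center G) ⧸ pCore r (G ⧸ center G)) t).isNilpotent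
      infer_instance
  have hCnN : (C.subgroupOf N).Normal := by
    rw [normal_subgroupOf_iff_le_normalizer le_normalizer]
  have hNsolv : Group.IsSolvable N := by
    have := hL.isNilpotent_cent hr ht htr hxe hxZ
    refine (Group.isSolvable_iff_subgroup_quotient (C.subgroupOf N)).2 ⟨?_, ?_⟩
    · exact Group.isSolvable_of_isSolvable_injective
        (subgroupOfEquivOfLe (le_normalizer : C ≤ N)).injective
        (f := (subgroupOfEquivOfLe (le_normalizer : C ≤ N)).toMonoidHom)
    · refine PrimeOrders.isSolvable_of_primeFactors_card_le_two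
        ((Finset.card_le_card (t := {r, t}) fun d hd => ?_).trans Finset.card_le_two)
      obtain ⟨hdp, hdd, -⟩ := Nat.mem_primeFactors.1 hd
      rw [← index_eq_card] at hdd
      rw [Finset.mem_insert, Finset.mem_singleton]
      exact hprimes d hdp (hdd.trans (relIndex_dvd_index_of_le le_normalizer))
  refine (Group.isSolvable_iff_subgroup_quotient P).2 ⟨hPsolv, ?_⟩
  refine Group.isSolvable_of_surjective (f := (QuotientGroup.mk' P).comp N.subtype) ?_
  rw [← MonoidHom.range_eq_top, MonoidHom.range_comp, range_subtype]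
  have h3 := congrArg (Subgroup.map (QuotientGroup.mk' P)) hsup'
  rw [Subgroup.map_sup, QuotientGroup.map_mk'_self, sup_bot_eq, map_top_of_surjective _
    (QuotientGroup.mk'_surjective P)] at h3
  exact top_le_iff.1 (h3 ▸ map_mono hNN)

end CfsgLib.ThreeClassSizes
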