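import Mathlib
import Cfsg.Agent.ThreeClassSizes.Local
import Cfsg.Agent.GroupBasics.Conjugates

/-!
Solvability when all centralisers of noncentral elements of prime-power order are abelian, each
meeting two primes outside the centre, and there are at most two orders of them.
-/

set_option autoImplicit false
set_option linter.unusedSectionVars false

namespace CfsgLib.ThreeClassSizes

open Subgroup CfsgLib.TwoRegularSizes

variable {G : Type*} [Group G] [Finite G]

/-- The centraliser of every noncentral element of prime-power order is abelian and contains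
noncentral elements of another prime-power order. -/
structure AbelianImpure (G : Type*) [Group G] : Prop where
  comm : ∀ ⦃p : ℕ⦄ ⦃v : G⦄, p.Prime → PE p v → v ∉ center G →
    ∀ a ∈ centralizer ({v} : Set G), ∀ b ∈ centralizer ({v} : Set G), Commute a b
  impure : ∀ ⦃p : ℕ⦄ ⦃v : G⦄, p.Prime → PE p v → v ∉ center G →
    ∃ (q : ℕ) (w : G), q.Prime ∧ q ≠ p ∧ PE q w ∧ w ∉ center G ∧
      w ∈ centralizer ({v} : Set G)

theorem card_cent_conj (g v : G) :
    Nat.card (centralizer ({g * v * g⁻¹} : Set G)) = Nat.card (centralizer ({v} : Set G)) := by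
  rw [conj_cent]
  exact card_map_of_injective (MulAut.conj g).injective

theorem cexp_conj (t : ℕ) (g v : G) : cexp t (g * v * g⁻¹) = cexp t v := by
  rw [cexp, card_cent_conj, cexp]

theorem conj_not_mem_center {g v : G} (hv : v ∉ center G) : g * v * g⁻¹ ∉ center G := fun hz =>
  hv (by simpa [mul_assoc] using Subgroup.Normal.conj_mem inferInstance _ hz g⁻¹)

theorem ncard_conj_le {C : Subgroup G} (hZC : center G ≤ C) :
    {y : G | y ∉ center G ∧ ∃ g : G, g⁻¹ * y * g ∈ C}.ncard ≤
      (normalizer (C : Set G)).index * (Nat.card C - Nat.card (center G)) := by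
  set N := normalizer (C : Set G)
  let F : (G ⧸ N) × ↥((C : Set G) \ (center G : Set G)) → G := fun p =>
    p.1.out * (p.2 : G) * (p.1.out)⁻¹
  have hsub : {y : G | y ∉ center G ∧ ∃ g : G, g⁻¹ * y * g ∈ C} ⊆ Set.range F := by
    rintro y ⟨hyZ, g, hg⟩
    obtain ⟨n, hn⟩ := QuotientGroup.mk_out_eq_mul N g
    set ω : G ⧸ N := (g : G ⧸ N)
    refine ⟨(ω, ⟨(ω.out)⁻¹ * y * ω.out, ?_, fun hz => hyZ ?_⟩), ?_⟩
    · rw [hn, mul_inv_rev, show (n : G)⁻¹ * g⁻¹ * y * (g * n) = (n : G)⁻¹ * (g⁻¹ * y * g) * n by group]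
      exact (mem_normalizer_iff''.1 n.2 _).1 hg
    · simpa [mul_assoc] using Subgroup.Normal.conj_mem inferInstance _ hz ω.out
    · show ω.out * ((ω.out)⁻¹ * y * ω.out) * (ω.out)⁻¹ = y
      group
  refine (Set.ncard_le_ncard hsub (Set.toFinite _)).trans ?_
  rw [← Nat.card_coe_set_eq]
  refine (Finite.card_range_le F).trans (le_of_eq ?_)
  rw [Nat.card_prod, ← index_eq_card, Nat.card_coe_set_eq ((C : Set G) \ (center G : Set G)),
    Set.ncard_sdiff hZC, ← Nat.card_coe_set_eq, ← Nat.card_coe_set_eq]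
  rfl

variable (hA : AbelianImpure G)

include hA

theorem AbelianImpure.local : Local G 0 := fun _ _ hp _ hv hvZ _ _ _ _ _ hc c hcv =>
  mem_cent.2 (hA.comm hp hv hvZ c hcv _ (mem_cent.2 hc.symm))

/-- Every noncentral element has the centraliser of one of prime-power order. -/
theorem AbelianImpure.exists_primary_eq {y : G} (hy : y ∉ center G) :
    ∃ (p : ℕ) (y' : G), p.Prime ∧ PE p y' ∧ y' ∉ center G ∧ y' ∈ zpowers y ∧
      centralizer ({y} : Set G) = centralizer ({y'} : Set G) := by
  obtain ⟨p, y', hp, hy', hy'Z, hmem⟩ := exists_primary hy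
  refine ⟨p, y', hp, hy', hy'Z, hmem, le_antisymm (cent_le_of_mem_zpowers hmem) fun c hc => ?_⟩
  have hyc : y ∈ centralizer ({y'} : Set G) :=
    cent_le_of_mem_zpowers hmem (mem_cent.2 (Commute.refl y))
  exact mem_cent.2 (hA.comm hp hy' hy'Z c hc y hyc)

/-- Some prime is full in the centraliser. -/
theorem AbelianImpure.exists_full {p : ℕ} {v : G} (hp : p.Prime) (hv : PE p v) (hvZ : v ∉ center G) :
    ∃ u, u.Prime ∧ zexp G u < cexp u v ∧ (Nat.card G).factorization u ≤ cexp u v := by
  obtain ⟨q, w, hq, hqp, hw, hwZ, hwC⟩ := hA.impure hp hv hvZ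
  have hp' := zexp_lt_of_mem hp (mem_cent.2 (Commute.refl v)) hv hvZ
  have hq' := zexp_lt_of_mem hq hwC hw hwZ
  by_cases hpd : (Nat.card G).factorization p ≤ cexp p v
  · exact ⟨p, hp, hp', hpd⟩
  refine ⟨q, hq, hq', not_lt.1 fun hlt => ?_⟩
  exact hA.local.false_of_two_deficient hp hp.ne_zero hv hvZ hp hp.ne_zero hq hq.ne_zero hqp.symm
    hp' hq' (not_le.1 hpd) hlt

/-- Two centralisers with a common full prime are conjugate. -/
theorem AbelianImpure.exists_conj {p q u : ℕ} {v w : G} (hp : p.Prime) (hv : PE p v)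
    (hvZ : v ∉ center G) (hq : q.Prime) (hw : PE q w) (hwZ : w ∉ center G) (hu : u.Prime)
    (hsup : zexp G u < cexp u v) (hfull : (Nat.card G).factorization u ≤ cexp u w) :
    ∃ g, centralizer ({w} : Set G) = centralizer ({g * v * g⁻¹} : Set G) := by
  have := Fact.mk hu
  have hL := hA.local
  have hn := hL.nice hq hq.ne_zero hw hwZ
  have hcard : Nat.card (part u w) = u ^ (Nat.card G).factorization u := by
    rw [card_part hu hu.ne_zero hn, le_antisymm hfull (cexp_le hu w)]
    rfl
  obtain ⟨y, hyC, hye, hyZ⟩ := exists_pe_of_lt (H := centralizer ({v} : Set G)) hu hsup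
  have hP : IsPGroup u (zpowers y) := by
    obtain ⟨k, hk⟩ := hye
    obtain ⟨j, -, hj⟩ := (Nat.dvd_prime_pow hu).1 (orderOf_dvd_of_pow_eq_one hk)
    exact IsPGroup.of_card (n := j) (by rw [Nat.card_zpowers, hj])
  obtain ⟨R, hR⟩ := hP.exists_le_sylow
  obtain ⟨g, hg⟩ := MulAction.exists_smul_eq G R (Sylow.ofCard (part u w) hcard)
  have hmem : g * y * g⁻¹ ∈ part u w := by
    show g * y * g⁻¹ ∈ ((Sylow.ofCard (part u w) hcard : Sylow u G) : Subgroup G)
    rw [← hg]
    exact smul_mem_pointwise_smul y (MulAut.conj g) _ (hR (mem_zpowers y))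
  refine ⟨g, ?_⟩
  rw [hL.cent_eq hq hq.ne_zero hw hwZ hu hu.ne_zero (hye.conj g) (conj_not_mem_center hyZ)
    (mem_cent.1 ((mem_part hu hu.ne_zero hn).1 hmem).1).symm, conj_cent, conj_cent g v,
    hL.cent_eq hp hp.ne_zero hv hvZ hu hu.ne_zero hye hyZ (mem_cent.1 hyC).symm]

/-- The case of a self-normalising centraliser. -/
theorem AbelianImpure.isSolvable_of_normalizer {p q : ℕ} {v w : G} (hp : p.Prime) (hv : PE p v)
    (hvZ : v ∉ center G) (hq : q.Prime) (hw : PE q w) (hwZ : w ∉ center G)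
    (hne : Nat.card (centralizer ({v} : Set G)) ≠ Nat.card (centralizer ({w} : Set G)))
    (hcover : ∀ y, y ∉ center G → ∃ g, centralizer ({y} : Set G) = centralizer ({g * v * g⁻¹} : Set G) ∨
      centralizer ({y} : Set G) = centralizer ({g * w * g⁻¹} : Set G))
    (hN : normalizer (centralizer ({v} : Set G) : Set G) = centralizer ({v} : Set G)) :
    Group.IsSolvable G := by
  have hL := hA.local
  set C := centralizer ({v} : Set G) with hC
  have hnv := hL.nice hp hp.ne_zero hv hvZ
  have hfullv : ∀ u : ℕ, u.Prime → zexp G u < cexp u v →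
      (Nat.card G).factorization u ≤ cexp u v := by
    intro u hu hsup
    by_contra hlt
    obtain ⟨g, -, hgN, hgC⟩ := hL.exists_mem_normalizer hp hp.ne_zero hv hvZ hu hu.ne_zero hsup
      (not_le.1 hlt)
    rw [hN] at hgN
    exact hgC hgN
  -- the normal complements
  have key : ∀ i : {u : ℕ // u.Prime ∧ zexp G u < cexp u v}, ∃ K : Subgroup G, K.Normal ∧
      ¬ (i : ℕ) ∣ Nat.card K ∧ commutator G ≤ K ∧
      ∀ (s : ℕ) (y : G), s.Prime → s ≠ (i : ℕ) → PE s y → y ∈ K := by
    rintro ⟨u, hu, hsup⟩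
    have := Fact.mk hu
    have hcard : Nat.card (part u v) = u ^ (Nat.card G).factorization u := by
      rw [card_part hu hu.ne_zero hnv, le_antisymm (hfullv u hu hsup) (cexp_le hu v)]
      rfl
    set P := Sylow.ofCard (part u v) hcard with hP
    have hPm : ∀ y, y ∈ (P : Subgroup G) ↔ y ∈ C ∧ PE u y := fun y => mem_part hu hu.ne_zero hnv
    have hPN : normalizer (P : Set G) ≤ centralizer (P : Set G) := by
      intro g hg
      obtain ⟨y, hyC, hye, hyZ⟩ := exists_pe_of_lt (H := C) hu hsup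
      have hgy := (hPm _).1 ((mem_normalizer_iff.1 hg y).1 ((hPm y).2 ⟨hyC, hye⟩))
      have hCy : C = centralizer ({y} : Set G) :=
        hL.cent_eq hp hp.ne_zero hv hvZ hu hu.ne_zero hye hyZ (mem_cent.1 hyC).symm
      have hgC : g ∈ C := by
        rw [← hN, hCy]
        exact mem_normalizer_of_cent_eq ((hL.cent_eq hp hp.ne_zero hv hvZ hu hu.ne_zero hgy.2
          (conj_not_mem_center hyZ) (mem_cent.1 hgy.1).symm).symm.trans hCy)
      rw [mem_centralizer_iff]
      intro z hz
      exact (hA.comm hp hv hvZ z ((hPm z).1 hz).1 g hgC).eq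
    refine ⟨(MonoidHom.transferSylow P hPN).ker, inferInstance,
      MonoidHom.not_dvd_card_ker_transferSylow P hPN, ?_, ?_⟩
    · rw [commutator_def, commutator_le]
      intro a _ b _
      have : ∀ x y : P, Commute x y := fun x y => Subtype.ext
        (hA.comm hp hv hvZ x ((hPm x).1 x.2).1 y ((hPm y).1 y.2).1).eq
      rw [MonoidHom.mem_ker, map_commutatorElement, commutatorElement_eq_one_iff_commute]
      exact this _ _
    · intro s y hs hsu hy
      rw [MonoidHom.mem_ker]
      exact (hy.map _).eq_one ((P.isPGroup' (MonoidHom.transferSylow P hPN y)))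
        hs hu hsu
  choose f hfn hfd hfc hfm using key
  set K : Subgroup G := ⨅ i, f i with hK
  have hKn : K.Normal := Subgroup.normal_iInf_normal hfn
  have hcomK : commutator G ≤ K := le_iInf hfc
  -- a full prime of the other centraliser
  obtain ⟨u, hu, husup, hufull⟩ := hA.exists_full hq hw hwZ
  have := Fact.mk hu
  have huv : ¬ zexp G u < cexp u v := by
    intro h
    obtain ⟨g, hg⟩ := hA.exists_conj hp hv hvZ hq hw hwZ hu h hufull
    exact hne (by rw [hg, card_cent_conj])
  have hnw := hL.nice hq hq.ne_zero hw hwZ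
  have hcard : Nat.card (part u w) = u ^ (Nat.card G).factorization u := by
    rw [card_part hu hu.ne_zero hnw, le_antisymm hufull (cexp_le hu w)]
    rfl
  set T := Sylow.ofCard (part u w) hcard with hT
  have hTm : ∀ y, y ∈ (T : Subgroup G) ↔ y ∈ centralizer ({w} : Set G) ∧ PE u y :=
    fun y => mem_part hu hu.ne_zero hnw
  have hTK : (T : Subgroup G) ≤ K := le_iInf fun i y hy =>
    hfm i u y hu (fun e => huv (e ▸ i.2.2)) ((hTm y).1 hy).2
  have hFrat := Sylow.normalizer_sup_eq_top' T hTK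
  have hTN : normalizer (T : Set G) ≤ normalizer (centralizer ({w} : Set G) : Set G) := by
    intro g hg
    obtain ⟨y, hyC, hye, hyZ⟩ := exists_pe_of_lt (H := centralizer ({w} : Set G)) hu husup
    have hgy := (hTm _).1 ((mem_normalizer_iff.1 hg y).1 ((hTm y).2 ⟨hyC, hye⟩))
    have hCy : centralizer ({w} : Set G) = centralizer ({y} : Set G) :=
      hL.cent_eq hq hq.ne_zero hw hwZ hu hu.ne_zero hye hyZ (mem_cent.1 hyC).symm
    rw [hCy]
    exact mem_normalizer_of_cent_eq ((hL.cent_eq hq hq.ne_zero hw hwZ hu hu.ne_zero hgy.2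
      (conj_not_mem_center hyZ) (mem_cent.1 hgy.1).symm).symm.trans hCy)
  -- the complement lies in the other centraliser
  have hKw : K ≤ centralizer ({w} : Set G) := by
    rw [← subgroupOf_eq_top]
    refine GroupBasics.eq_top_of_forall_conj_mem fun y => ?_
    by_cases hyZ : (y : G) ∈ center G
    · refine ⟨1, ?_⟩
      rw [mem_subgroupOf]
      simpa using center_le_cent w hyZ
    obtain ⟨g, hg | hg⟩ := hcover _ hyZ
    · exfalso
      obtain ⟨s, y', hs, hy', hy'Z, hmem, heq⟩ := hA.exists_primary_eq hyZ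
      have hsup : zexp G s < cexp s v := by
        rw [← cexp_conj s g v]
        refine zexp_lt_of_mem hs ?_ hy' hy'Z
        rw [← hg, heq]
        exact mem_cent.2 (Commute.refl y')
      have hy'K : y' ∈ f ⟨s, hs, hsup⟩ :=
        (iInf_le f _ : K ≤ _) ((zpowers_le.2 y.2) hmem)
      obtain ⟨k, hk⟩ := hy'
      refine hy'Z ?_
      have h1 : orderOf y' = 1 := Nat.eq_one_of_dvd_coprimes
        ((hs.coprime_iff_not_dvd.2 (hfd ⟨s, hs, hsup⟩)).pow_left k) (orderOf_dvd_of_pow_eq_one hk)
        ((Subgroup.orderOf_mk y' hy'K) ▸ orderOf_dvd_natCard _)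
      rw [orderOf_eq_one_iff.1 h1]
      exact one_mem _
    · obtain ⟨n, hn, k, hk, hnk⟩ := Subgroup.mem_sup_of_normal_right.1
        (hFrat ▸ mem_top g⁻¹ : g⁻¹ ∈ normalizer (T : Set G) ⊔ K)
      refine ⟨⟨k, hk⟩, ?_⟩
      rw [mem_subgroupOf]
      show k * (y : G) * k⁻¹ ∈ centralizer ({w} : Set G)
      have hy : (y : G) ∈ centralizer ({g * w * g⁻¹} : Set G) := hg ▸ mem_cent.2 (Commute.refl _)
      have h1 : g⁻¹ * (y : G) * g⁻¹⁻¹ ∈ centralizer ({g⁻¹ * (g * w * g⁻¹) * g⁻¹⁻¹} : Set G) := by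
        rw [conj_cent g⁻¹]
        exact mem_map_of_mem _ hy
      rw [show g⁻¹ * (g * w * g⁻¹) * g⁻¹⁻¹ = w by group] at h1
      rw [mem_normalizer_iff.1 (hTN hn) (k * (y : G) * k⁻¹)]
      rw [← hnk] at h1
      convert h1 using 1
      group
  have h1 : Group.IsSolvable (commutator G) := Group.isSolvable_of_comm fun a b => Subtype.ext
    (hA.comm hq hw hwZ a (hKw (hcomK a.2)) b (hKw (hcomK b.2))).eq
  refine (Group.isSolvable_iff_subgroup_quotient (commutator G)).2 ⟨h1, ?_⟩
  exact Group.isSolvable_of_comm (G := Abelianization G) fun a b => mul_comm a b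

theorem AbelianImpure.isSolvable {c₁ c₂ : ℕ} (hne : c₁ ≠ c₂)
    (hdich : ∀ y : G, y ∉ center G → Nat.card (centralizer ({y} : Set G)) = c₁ ∨
      Nat.card (centralizer ({y} : Set G)) = c₂)
    (h₁ : ∃ y : G, y ∉ center G ∧ Nat.card (centralizer ({y} : Set G)) = c₁)
    (h₂ : ∃ y : G, y ∉ center G ∧ Nat.card (centralizer ({y} : Set G)) = c₂) :
    Group.IsSolvable G := by
  obtain ⟨x₁, hx₁, hc₁⟩ := h₁
  obtain ⟨x₂, hx₂, hc₂⟩ := h₂
  obtain ⟨p, v, hp, hv, hvZ, -, he₁⟩ := hA.exists_primary_eq hx₁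
  obtain ⟨q, w, hq, hw, hwZ, -, he₂⟩ := hA.exists_primary_eq hx₂
  rw [he₁] at hc₁
  rw [he₂] at hc₂
  have hcover : ∀ y, y ∉ center G →
      ∃ g, centralizer ({y} : Set G) = centralizer ({g * v * g⁻¹} : Set G) ∨
        centralizer ({y} : Set G) = centralizer ({g * w * g⁻¹} : Set G) := by
    intro y hy
    obtain ⟨s, y', hs, hy', hy'Z, -, he⟩ := hA.exists_primary_eq hy
    obtain ⟨u, hu, husup, hufull⟩ := hA.exists_full hs hy' hy'Z
    rcases hdich y' hy'Z with e | e
    · have e' : cexp u v = cexp u y' := by rw [cexp, cexp, hc₁, e]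
      obtain ⟨g, hg⟩ := hA.exists_conj hp hv hvZ hs hy' hy'Z hu (e'.symm ▸ husup) hufull
      exact ⟨g, Or.inl (he.trans hg)⟩
    · have e' : cexp u w = cexp u y' := by rw [cexp, cexp, hc₂, e]
      obtain ⟨g, hg⟩ := hA.exists_conj hq hw hwZ hs hy' hy'Z hu (e'.symm ▸ husup) hufull
      exact ⟨g, Or.inr (he.trans hg)⟩
  by_cases hN₁ : normalizer (centralizer ({v} : Set G) : Set G) = centralizer ({v} : Set G)
  · exact hA.isSolvable_of_normalizer hp hv hvZ hq hw hwZ (by rw [hc₁, hc₂]; exact hne) hcover hN₁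
  by_cases hN₂ : normalizer (centralizer ({w} : Set G) : Set G) = centralizer ({w} : Set G)
  · exact hA.isSolvable_of_normalizer hq hw hwZ hp hv hvZ (by rw [hc₁, hc₂]; exact hne.symm)
      (fun y hy => (hcover y hy).imp fun _ h => h.symm) hN₂
  exfalso
  -- counting
  have htwo : ∀ x : G, normalizer (centralizer ({x} : Set G) : Set G) ≠ centralizer ({x} : Set G) →
      2 * ((normalizer (centralizer ({x} : Set G) : Set G)).index *
        Nat.card (centralizer ({x} : Set G))) ≤ Nat.card G := by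
    intro x hx
    set C := centralizer ({x} : Set G)
    set N := normalizer (C : Set G)
    have hlt : C < N := lt_of_le_of_ne le_normalizer (Ne.symm hx)
    obtain ⟨k, hk⟩ := card_dvd_of_le hlt.le
    have hk2 : 2 ≤ k := by
      by_contra hk1
      rcases Nat.lt_succ_iff.1 (not_le.1 hk1) |>.lt_or_eq with h | h
      · rw [Nat.lt_one_iff.1 h, mul_zero] at hk
        exact (Nat.card_pos (α := N)).ne' hk
      · rw [h, mul_one] at hk
        exact hlt.ne (Subgroup.eq_of_le_of_card_ge hlt.le hk.le)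
    calc 2 * (N.index * Nat.card C) = Nat.card C * 2 * N.index := by ring
      _ ≤ Nat.card C * k * N.index := by gcongr
      _ = Nat.card G := by rw [← hk, card_mul_index]
  have hsub : (Set.univ : Set G) ⊆ (center G : Set G) ∪
      ({y : G | y ∉ center G ∧ ∃ g : G, g⁻¹ * y * g ∈ centralizer ({v} : Set G)} ∪
       {y : G | y ∉ center G ∧ ∃ g : G, g⁻¹ * y * g ∈ centralizer ({w} : Set G)}) := by
    intro y _
    by_cases hy : y ∈ center G
    · exact Or.inl hy
    refine Or.inr ?_
    have aux : ∀ {g x : G}, centralizer ({y} : Set G) = centralizer ({g * x * g⁻¹} : Set G) →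
        g⁻¹ * y * g ∈ centralizer ({x} : Set G) := by
      intro g x h
      have h1 : y ∈ (centralizer ({x} : Set G)).map (MulAut.conj g).toMonoidHom :=
        conj_cent g x ▸ h ▸ mem_cent.2 (Commute.refl y)
      obtain ⟨d, hd, rfl⟩ := h1
      simpa [mul_assoc] using hd
    obtain ⟨g, hg | hg⟩ := hcover y hy
    · exact Or.inl ⟨hy, g, aux hg⟩
    · exact Or.inr ⟨hy, g, aux hg⟩
  have hcount := (Set.ncard_le_ncard hsub (Set.toFinite _)).trans
    ((Set.ncard_union_le _ _).trans (Nat.add_le_add_left (Set.ncard_union_le _ _) _))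
  rw [Set.ncard_univ] at hcount
  have hz : (center G : Set G).ncard = Nat.card (center G) := (Nat.card_coe_set_eq _).symm
  have b1 := ncard_conj_le (center_le_cent v)
  have b2 := ncard_conj_le (center_le_cent w)
  have t1 := htwo v hN₁
  have t2 := htwo w hN₂
  rw [Nat.mul_sub] at b1 b2
  have z0 : 0 < Nat.card (center G) := Nat.card_pos
  have l1 := Nat.le_mul_of_pos_left (Nat.card (center G)) (Nat.pos_of_ne_zero
    (index_ne_zero_of_finite (H := normalizer (centralizer ({v} : Set G) : Set G))))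
  have l2 := Nat.le_mul_of_pos_left (Nat.card (center G)) (Nat.pos_of_ne_zero
    (index_ne_zero_of_finite (H := normalizer (centralizer ({w} : Set G) : Set G))))
  have m1 := Nat.mul_le_mul_left (normalizer (centralizer ({v} : Set G) : Set G)).index
    (card_le_of_le (center_le_cent v))
  have m2 := Nat.mul_le_mul_left (normalizer (centralizer ({w} : Set G) : Set G)).index
    (card_le_of_le (center_le_cent w))
  omega

end CfsgLib.ThreeClassSizes
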