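import Mathlib
import Cfsg.Agent.ThreeClassSizes.Abelian
import Cfsg.Agent.ThreeClassSizes.Core
import Cfsg.Agent.TwoRegularSizes.Main

/-!
Finite groups with three class sizes are solvable.
-/

set_option autoImplicit false
set_option linter.unusedSectionVars false

namespace CfsgLib.ThreeClassSizes

open Subgroup CfsgLib.TwoRegularSizes

variable {G : Type*} [Group G] [Finite G]

/-- The centralisers of noncentral elements have the orders `c₁ < c₂`. -/
structure ThreeSizes (G : Type*) [Group G] (c₁ c₂ : ℕ) : Prop where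
  lt : c₁ < c₂
  dich : ∀ x : G, x ∉ center G → Nat.card (centralizer ({x} : Set G)) = c₁ ∨
    Nat.card (centralizer ({x} : Set G)) = c₂
  ex₁ : ∃ x : G, x ∉ center G ∧ Nat.card (centralizer ({x} : Set G)) = c₁
  ex₂ : ∃ x : G, x ∉ center G ∧ Nat.card (centralizer ({x} : Set G)) = c₂

theorem cent_mul_eq {a b : G} (hc : Commute a b) (hco : (orderOf a).Coprime (orderOf b)) :
    centralizer ({a * b} : Set G) = centralizer ({a} : Set G) ⊓ centralizer ({b} : Set G) := by
  ext c
  rw [mem_inf, mem_cent, mem_cent, mem_cent]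
  refine ⟨fun h => ?_, fun h => h.1.mul_right h.2⟩
  have h1 : Commute c (a ^ orderOf b) := by
    have := h.pow_right (orderOf b)
    rwa [hc.mul_pow, pow_orderOf_eq_one, mul_one] at this
  obtain ⟨k, hk⟩ := exists_pow_eq_self_of_coprime hco.symm
  have h2 : Commute c a := hk ▸ h1.pow_right k
  exact ⟨h2, by simpa using h2.inv_right.mul_right h⟩

/-- A subgroup in which every element of prime-power order is central is commutative. -/
theorem commute_of_forall_pe {C : Subgroup G}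
    (h : ∀ p : ℕ, p.Prime → ∀ y ∈ C, PE p y → C ≤ centralizer ({y} : Set G)) :
    ∀ a ∈ C, ∀ b ∈ C, Commute a b := by
  have hle : C ≤ centralizer (C : Set G) := le_of_forall_pe fun p hp y hy hpe =>
    mem_centralizer_iff.2 fun c hc => (mem_cent.1 (h p hp y hy hpe hc)).eq
  exact fun a ha b hb => mem_centralizer_iff.1 (hle hb) a ha

variable {c₁ c₂ : ℕ} (h : ThreeSizes G c₁ c₂)

include h

theorem ThreeSizes.le_card {x : G} (hx : x ∉ center G) :
    c₁ ≤ Nat.card (centralizer ({x} : Set G)) ∧ Nat.card (centralizer ({x} : Set G)) ≤ c₂ := by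
  have := h.lt
  rcases h.dich x hx with e | e <;> omega

theorem ThreeSizes.eq_of_le {x y : G} (hx : Nat.card (centralizer ({x} : Set G)) = c₂)
    (hy : y ∉ center G) (hle : centralizer ({x} : Set G) ≤ centralizer ({y} : Set G)) :
    centralizer ({y} : Set G) = centralizer ({x} : Set G) :=
  (Subgroup.eq_of_le_of_card_ge hle ((h.le_card hy).2.trans hx.ge)).symm

/-- A smallest centraliser lies in those of the commuting elements of coprime order. -/
theorem ThreeSizes.min_le {x y : G} (hxZ : x ∉ center G)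
    (hx : Nat.card (centralizer ({x} : Set G)) = c₁) (hc : Commute x y)
    (hco : (orderOf x).Coprime (orderOf y)) :
    centralizer ({x} : Set G) ≤ centralizer ({y} : Set G) := by
  have he := cent_mul_eq hc hco
  have hZ : x * y ∉ center G := fun hz => not_commute_all hxZ (top_le_iff.1 fun g _ =>
    (mem_inf.1 (he ▸ mem_cent.2 (mem_center_iff.1 hz g))).1)
  have h1 := (h.le_card hZ).1
  rw [he, ← hx] at h1
  exact inf_eq_left.1 (Subgroup.eq_of_le_of_card_ge inf_le_left h1)

/-- In a largest centraliser, an element of order prime to that of the centralised element and not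
central there has centraliser of smallest order. -/
theorem ThreeSizes.card_inf {b w : G} (hb : Nat.card (centralizer ({b} : Set G)) = c₂)
    (hbZ : b ∉ center G)
    (hw : w ∈ centralizer ({b} : Set G)) (hco : (orderOf b).Coprime (orderOf w))
    (hnc : ¬ centralizer ({b} : Set G) ≤ centralizer ({w} : Set G)) :
    Nat.card (centralizer ({b} : Set G) ⊓ centralizer ({w} : Set G) : Subgroup G) = c₁ := by
  have he := cent_mul_eq (mem_cent.1 hw).symm hco
  have hZ : b * w ∉ center G := fun hz => not_commute_all hbZ (top_le_iff.1 fun g _ =>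
    (mem_inf.1 (he ▸ mem_cent.2 (mem_center_iff.1 hz g))).1)
  rw [← he]
  refine (h.dich _ hZ).resolve_right fun e => hnc ?_
  rw [he, ← hb] at e
  exact inf_eq_left.1 (Subgroup.eq_of_le_of_card_ge inf_le_left e.ge)

/-- A nonabelian centraliser meeting a second prime gives a largest centraliser with a non-central
element of coprime order. -/
theorem ThreeSizes.exists_base {p q : ℕ} {x y : G} (hp : p.Prime) (hx : PE p x) (hxZ : x ∉ center G)
    (hna : ¬ ∀ a ∈ centralizer ({x} : Set G), ∀ b ∈ centralizer ({x} : Set G), Commute a b)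
    (hq : q.Prime) (hqp : q ≠ p) (hy : PE q y) (hyZ : y ∉ center G)
    (hyC : y ∈ centralizer ({x} : Set G)) :
    ∃ (l s : ℕ) (b w : G), l.Prime ∧ PE l b ∧ b ∉ center G ∧
      Nat.card (centralizer ({b} : Set G)) = c₂ ∧ s.Prime ∧ s ≠ l ∧ PE s w ∧
      w ∈ centralizer ({b} : Set G) ∧ ¬ centralizer ({b} : Set G) ≤ centralizer ({w} : Set G) := by
  set C := centralizer ({x} : Set G) with hC
  have hxy : Commute x y := (mem_cent.1 hyC).symm
  rcases h.dich x hxZ with hx1 | hx2
  · have hle : C ≤ centralizer ({y} : Set G) := h.min_le hxZ hx1 hxy (hx.coprime' hy hp hq hqp.symm)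
    have hreg : ∀ s : ℕ, s.Prime → s ≠ p → ∀ w ∈ C, PE s w → C ≤ centralizer ({w} : Set G) :=
      fun s hs hsp w hw hwe => h.min_le hxZ hx1 (mem_cent.1 hw).symm (hx.coprime' hwe hp hs hsp.symm)
    obtain ⟨w, hw, hwe, hwn⟩ : ∃ w ∈ C, PE p w ∧ ¬ C ≤ centralizer ({w} : Set G) := by
      by_contra hall
      push Not at hall
      refine hna (commute_of_forall_pe fun s hs w hw hwe => ?_)
      by_cases hsp : s = p
      · exact hall w hw (hsp ▸ hwe)
      · exact hreg s hs hsp w hw hwe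
    have hy2 : Nat.card (centralizer ({y} : Set G)) = c₂ := by
      refine (h.dich y hyZ).resolve_left fun e => ?_
      have he := Subgroup.eq_of_le_of_card_ge hle (e.trans hx1.symm).le
      exact hwn (he ▸ h.min_le hyZ e (mem_cent.1 (hle hw)).symm (hy.coprime' hwe hq hp hqp))
    exact ⟨q, p, y, w, hq, hy, hyZ, hy2, hp, hqp.symm, hwe, hle hw,
      fun hle' => hwn (hle.trans hle')⟩
  · by_cases hreg : ∃ (s : ℕ) (w : G), s.Prime ∧ s ≠ p ∧ PE s w ∧ w ∈ C ∧
        ¬ C ≤ centralizer ({w} : Set G)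
    · obtain ⟨s, w, hs, hsp, hwe, hw, hwn⟩ := hreg
      exact ⟨p, s, x, w, hp, hx, hxZ, hx2, hs, hsp, hwe, hw, hwn⟩
    push Not at hreg
    have he : centralizer ({y} : Set G) = C := h.eq_of_le hx2 hyZ (hreg q y hq hqp hy hyC)
    obtain ⟨w, hw, hwe, hwn⟩ : ∃ w ∈ C, PE p w ∧ ¬ C ≤ centralizer ({w} : Set G) := by
      by_contra hall
      push Not at hall
      refine hna (commute_of_forall_pe fun s hs w hw hwe => ?_)
      by_cases hsp : s = p
      · exact hall w hw (hsp ▸ hwe)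
      · exact hreg s w hs hsp hwe hw
    exact ⟨q, p, y, w, hq, hy, hyZ, by rw [he]; exact hx2, hp, hqp.symm, hwe, he.symm ▸ hw,
      he.symm ▸ hwn⟩

/-- The index `k` of such an element has all its primes equal to that of the centralised element,
or all but one further prime are central; and every prime of `k` is non-central. -/
theorem ThreeSizes.struct {k l s : ℕ} {b w : G} (hk : c₂ = c₁ * k) (hl : l.Prime) (hb : PE l b)
    (hbZ : b ∉ center G) (hb2 : Nat.card (centralizer ({b} : Set G)) = c₂) (hs : s.Prime)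
    (hsl : s ≠ l) (hw : PE s w) (hwC : w ∈ centralizer ({b} : Set G))
    (hwn : ¬ centralizer ({b} : Set G) ≤ centralizer ({w} : Set G)) :
    ((∀ d : ℕ, d.Prime → d ∣ k → d = l) ∨
      ∃ l₂ : ℕ, ∀ (d : ℕ) (y : G), d.Prime → d ≠ l → d ≠ l₂ → PE d y →
        y ∈ centralizer ({b} : Set G) → centralizer ({b} : Set G) ≤ centralizer ({y} : Set G)) ∧
    ∀ d : ℕ, d.Prime → d ∣ k → ∃ y ∈ centralizer ({b} : Set G), PE d y ∧
        ¬ centralizer ({b} : Set G) ≤ centralizer ({y} : Set G) := by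
  have := Fact.mk hl
  set L := centralizer ({b} : Set G) with hL
  have hcen : ∀ y : L, y ∈ center L ↔ L ≤ centralizer ({(y : G)} : Set G) := by
    intro y
    rw [mem_center_iff]
    exact ⟨fun hy c hc => mem_cent.2 (congrArg Subtype.val (hy ⟨c, hc⟩)),
      fun hy c => Subtype.ext (mem_cent.1 (hy c.2))⟩
  have hpos : 0 < c₁ := by
    obtain ⟨x, -, hx⟩ := h.ex₁
    exact hx ▸ Nat.card_pos
  have hidx : ∀ y : L, (orderOf y).Coprime l → y ∉ center L →
      (centralizer ({y} : Set L)).index = k := by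
    intro y hy hyn
    have hyo : (orderOf b).Coprime (orderOf (y : G)) := by
      rw [Subgroup.orderOf_coe]
      exact hb.coprime hy.symm
    have h1 := h.card_inf hb2 hbZ y.2 hyo (fun hle => hyn ((hcen y).2 hle))
    rw [PrimePowerClass.index_dvd_subgroup, ← inf_relIndex_right]
    have h2 := PLocal.card_mul_relIndex
      (inf_le_right : centralizer ({(y : G)} : Set G) ⊓ L ≤ L)
    conv at h2 => arg 1; arg 1; rw [inf_comm, h1]
    exact Nat.eq_of_mul_eq_mul_left hpos (h2.trans (hb2.trans hk))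
  have hwl : (orderOf (⟨w, hwC⟩ : L)).Coprime l := by
    rw [Subgroup.orderOf_mk]
    exact hw.coprime ((Nat.coprime_primes hs hl).2 hsl)
  have hwc : (⟨w, hwC⟩ : L) ∉ center L := fun hc => hwn ((hcen _).1 hc)
  have hT : TwoSizes L l k := ⟨hl, fun y hy => (em (y ∈ center L)).imp_right (hidx y hy),
    ⟨_, hwl, hidx _ hwl hwc⟩⟩
  have hnc : ∀ d : ℕ, d.Prime → d ∣ k → ∀ T : Subgroup L, ¬ d ∣ T.index → IsPGroup d T →
      ∃ y ∈ T, y ∉ center L := by
    intro d hd hdk T hdi _
    by_contra hall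
    push Not at hall
    refine hdi (((hidx _ hwl hwc).symm ▸ hdk : d ∣ _).trans (index_dvd_of_le fun y hy => ?_))
    exact center_le_cent _ (hall y hy)
  refine ⟨?_, fun d hd hdk => ?_⟩
  swap
  · have := Fact.mk hd
    obtain ⟨S⟩ : Nonempty (Sylow d L) := inferInstance
    obtain ⟨y, hy, hyn⟩ := hnc d hd hdk S S.not_dvd_index S.isPGroup'
    exact ⟨y, y.2, (PE.of_isPGroup S.isPGroup' hy).map L.subtype, fun hle => hyn ((hcen y).2 hle)⟩
  rcases TwoRegularSizes.structure_thm hT with ⟨H, hH, hlH, e, he⟩ | ⟨l₂, _, P, Q, A, hl2, hA, hcard, -, -, htop⟩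
  · refine Or.inl fun d hd hdk => by_contra fun hdl => ?_
    have := Fact.mk hd
    obtain ⟨S⟩ : Nonempty (Sylow d H) := inferInstance
    have hdi : ¬ d ∣ ((S : Subgroup H).map H.subtype).index := by
      rw [index_map_subtype]
      intro hdd
      rcases hd.dvd_mul.1 hdd with h' | h'
      · exact S.not_dvd_index h'
      · rw [he] at h'
        exact hdl ((Nat.prime_dvd_prime_iff_eq hd hl).1 (hd.dvd_of_dvd_pow h'))
    obtain ⟨y, hy, hyn⟩ := hnc d hd hdk _ hdi (S.isPGroup'.map _)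
    have hye : PE d y := PE.of_isPGroup (S.isPGroup'.map _) hy
    have hyH : y ∈ H := map_subtype_le _ hy
    have h1 := hidx y (hye.coprime ((Nat.coprime_primes hd hl).2 hdl)) hyn
    have h2 : (centralizer ({y} : Set L)).index ∣ H.index := index_dvd_of_le fun c hc =>
      mem_cent.2 (congrArg Subtype.val (mul_comm' (⟨c, hc⟩ : H) ⟨y, hyH⟩))
    rw [h1, he] at h2
    exact hdl ((Nat.prime_dvd_prime_iff_eq hd hl).1 (hd.dvd_of_dvd_pow (hdk.trans h2)))
  · refine Or.inr ⟨l₂, fun d y hd hdl hdl₂ hy hyC => (hcen ⟨y, hyC⟩).1 (hA ?_)⟩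
    have hAn : A.Normal := ⟨fun a ha g => by
      rwa [mem_center_iff.1 (hA ha) g, mul_inv_cancel_right]⟩
    refine mem_of_pow_mem (n := A.index) ?_ (A.pow_index_mem ⟨y, hyC⟩)
    rw [Subgroup.orderOf_mk]
    refine hy.coprime (hd.coprime_iff_not_dvd.2 fun hdi => ?_)
    rw [← relIndex_top_right, ← htop, relIndex_sup_right] at hdi
    have h3 := hdi.trans (relIndex_dvd_card _ _)
    rw [hcard, P.card_eq_multiplicity, Q.card_eq_multiplicity] at h3
    rcases hd.dvd_mul.1 h3 with h' | h'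
    · exact hdl ((Nat.prime_dvd_prime_iff_eq hd hl).1 (hd.dvd_of_dvd_pow h'))
    · exact hdl₂ ((Nat.prime_dvd_prime_iff_eq hd Fact.out).1 (hd.dvd_of_dvd_pow h'))

theorem ThreeSizes.zexp_lt_two {k t : ℕ} (hk : c₂ = c₁ * k) (ht : Pr G t) :
    zexp G t < c₂.factorization t := by
  obtain ⟨ht, w, hw, hwZ⟩ := ht
  have h1 := zexp_lt_of_mem ht (mem_cent.2 (Commute.refl w)) hw hwZ
  have hpos : c₁ ≠ 0 ∧ k ≠ 0 := by
    have := h.lt
    constructor
    · rintro rfl; simp at hk; omega
    · rintro rfl; simp at hk; omega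
  rcases h.dich w hwZ with e | e <;> rw [cexp, e] at h1
  · rw [hk, Nat.factorization_mul hpos.1 hpos.2, Finsupp.add_apply]
    omega
  · exact h1

variable (hmany : ∀ p q : ℕ, ∃ t, Pr G t ∧ t ≠ p ∧ t ≠ q)

include hmany

/-- The quotient of the two orders is a power of a prime. -/
theorem ThreeSizes.exists_prime_ratio {l s : ℕ} {b w : G} (hl : l.Prime) (hb : PE l b)
    (hbZ : b ∉ center G) (hb2 : Nat.card (centralizer ({b} : Set G)) = c₂) (hs : s.Prime)
    (hsl : s ≠ l) (hw : PE s w) (hwC : w ∈ centralizer ({b} : Set G))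
    (hwn : ¬ centralizer ({b} : Set G) ≤ centralizer ({w} : Set G)) :
    ∃ k r : ℕ, c₂ = c₁ * k ∧ 1 < k ∧ r.Prime ∧ r ∣ k ∧ ∀ d : ℕ, d.Prime → d ∣ k → d = r := by
  have h1 := h.card_inf hb2 hbZ hwC (hb.coprime' hw hl hs hsl.symm) hwn
  obtain ⟨k, hk⟩ : c₁ ∣ c₂ := h1 ▸ hb2 ▸ card_dvd_of_le inf_le_left
  have hk1 : 1 < k := by
    have := h.lt
    by_contra hk1
    rcases Nat.lt_succ_iff.1 (Nat.lt_succ_of_le (not_lt.1 hk1)) |>.lt_or_eq with e | e
    · rw [Nat.lt_one_iff.1 e, mul_zero] at hk; omega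
    · rw [e, mul_one] at hk; omega
  suffices hsuf : ∃ r, ∀ d : ℕ, d.Prime → d ∣ k → d = r by
    obtain ⟨r, hr⟩ := hsuf
    have hm := Nat.minFac_prime (n := k) (by omega)
    have hmr := hr _ hm (Nat.minFac_dvd k)
    exact ⟨k, r, hk, hk1, hmr ▸ hm, hmr ▸ Nat.minFac_dvd k, hr⟩
  obtain ⟨hst, hne⟩ := h.struct hk hl hb hbZ hb2 hs hsl hw hwC hwn
  rcases hst with h1 | ⟨l₂, hl₂⟩
  · exact ⟨l, h1⟩
  obtain ⟨t, ht, htl, htl₂⟩ := hmany l l₂
  obtain ⟨a, ha, hae, haZ⟩ := exists_pe_of_lt (H := centralizer ({b} : Set G)) ht.1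
    (by rw [hb2]; exact h.zexp_lt_two hk ht)
  have he := h.eq_of_le hb2 haZ (hl₂ t a ht.1 htl htl₂ hae ha)
  have hst : s ≠ t := by
    rintro rfl
    exact hwn (hl₂ s w hs hsl htl₂ hw hwC)
  obtain ⟨hst', -⟩ := h.struct hk ht.1 hae haZ (he ▸ hb2) hs hst hw (he ▸ hwC) (he ▸ hwn)
  rcases hst' with h1 | ⟨t₂, ht₂⟩
  · refine ⟨t, h1⟩
  refine ⟨t₂, fun d hd hdk => by_contra fun hdt₂ => ?_⟩
  obtain ⟨y, hy, hye, hyn⟩ := hne d hd hdk
  by_cases hdt : d = t
  · exact hyn (hl₂ d y hd (hdt ▸ htl) (hdt ▸ htl₂) hye hy)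
  · exact hyn (he ▸ ht₂ d y hd hdt hdt₂ hye (he.symm ▸ hy))

variable {k r : ℕ} (hk : c₂ = c₁ * k) (hr : r.Prime) (hrk : r ∣ k)

include hk hr hrk

/-- In a largest centraliser of an element of order prime to `r`, the elements of prime-power order
prime to `r` are central. -/
theorem ThreeSizes.reg_central {p : ℕ} {v : G} (hp : p.Prime) (hpr : p ≠ r) (hv : PE p v)
    (hvZ : v ∉ center G) (hv2 : Nat.card (centralizer ({v} : Set G)) = c₂) :
    ∀ (d : ℕ) (y : G), d.Prime → d ≠ r → PE d y → y ∈ centralizer ({v} : Set G) →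
      centralizer ({v} : Set G) ≤ centralizer ({y} : Set G) := by
  -- the only possible non-central primes besides that of the centralised element
  have aux : ∀ (l : ℕ) (b : G), l.Prime → l ≠ r → PE l b → b ∉ center G →
      Nat.card (centralizer ({b} : Set G)) = c₂ → ∀ (d : ℕ) (y : G), d.Prime → d ≠ r → d ≠ l →
      PE d y → y ∈ centralizer ({b} : Set G) →
      centralizer ({b} : Set G) ≤ centralizer ({y} : Set G) := by
    intro l b hl hlr hb hbZ hb2 d y hd hdr hdl hy hyC
    by_contra hyn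
    obtain ⟨hst, hne⟩ := h.struct hk hl hb hbZ hb2 hd hdl hy hyC hyn
    rcases hst with h1 | ⟨l₂, hl₂⟩
    · exact hlr (h1 r hr hrk).symm
    obtain ⟨u, hu, hue, hun⟩ := hne r hr hrk
    by_cases hrl : r = l₂
    · exact hyn (hl₂ d y hd hdl (hrl ▸ hdr) hy hyC)
    · exact hun (hl₂ r u hr hlr.symm hrl hue hu)
  intro d y hd hdr hy hyC
  by_cases hdp : d = p
  swap
  · exact aux p v hp hpr hv hvZ hv2 d y hd hdr hdp hy hyC
  obtain ⟨t, ht, htp, htr⟩ := hmany p r
  obtain ⟨a, ha, hae, haZ⟩ := exists_pe_of_lt (H := centralizer ({v} : Set G)) ht.1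
    (by rw [hv2]; exact h.zexp_lt_two hk ht)
  have he := h.eq_of_le hv2 haZ (aux p v hp hpr hv hvZ hv2 t a ht.1 htr htp hae ha)
  exact he ▸ aux t a ht.1 htr hae haZ (he ▸ hv2) d y hd hdr (hdp ▸ htp.symm) hy (he ▸ hyC)

variable (hkr : ∀ d : ℕ, d.Prime → d ∣ k → d = r)

include hkr

theorem ThreeSizes.factorization_eq {t : ℕ} (ht : t.Prime) (htr : t ≠ r) :
    c₁.factorization t = c₂.factorization t := by
  have hpos : c₁ ≠ 0 ∧ k ≠ 0 := by
    have := h.lt
    constructor
    · rintro rfl; simp at hk; omega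
    · rintro rfl; simp at hk; omega
  rw [hk, Nat.factorization_mul hpos.1 hpos.2, Finsupp.add_apply,
    Nat.factorization_eq_zero_of_not_dvd fun hd => htr (hkr t ht hd), add_zero]

theorem ThreeSizes.local_of_ratio : Local G r := by
  intro p v hp hpr hv hvZ d y hd hdr hy hc
  have hyC : y ∈ centralizer ({v} : Set G) := mem_cent.2 hc.symm
  rcases h.dich v hvZ with hv1 | hv2
  swap
  · exact h.reg_central hmany hk hr hrk hp hpr hv hvZ hv2 d y hd hdr hy hyC
  by_cases hdp : d = p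
  swap
  · exact h.min_le hvZ hv1 hc (hv.coprime' hy hp hd (Ne.symm hdp))
  obtain ⟨t, ht, htp, htr⟩ := hmany p r
  obtain ⟨a, ha, hae, haZ⟩ := exists_pe_of_lt (H := centralizer ({v} : Set G)) ht.1
    (by rw [hv1, h.factorization_eq hmany hk hr hrk hkr ht.1 htr]; exact h.zexp_lt_two hk ht)
  have hle := h.min_le hvZ hv1 (mem_cent.1 ha).symm (hv.coprime' hae hp ht.1 htp.symm)
  rcases h.dich a haZ with ha1 | ha2
  · exact hle.trans (h.min_le haZ ha1 (mem_cent.1 (hle hyC)).symm
      (hae.coprime' hy ht.1 hd (hdp ▸ htp)))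
  · exact hle.trans (h.reg_central hmany hk hr hrk ht.1 htr hae haZ ha2 d y hd hdr hy (hle hyC))

theorem ThreeSizes.isSolvable_of_ratio : Group.IsSolvable G := by
  refine (h.local_of_ratio hmany hk hr hrk hkr).isSolvable_of_equal hr (fun t => ?_) ?_
  · obtain ⟨u, hu, h1, h2⟩ := hmany r t
    exact ⟨u, hu, h1, h2⟩
  intro p q v w _ _ _ hvZ _ _ _ hwZ t ht htr
  have e := h.factorization_eq hmany hk hr hrk hkr ht htr
  rcases h.dich v hvZ with e₁ | e₁ <;> rcases h.dich w hwZ with e₂ | e₂ <;>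
    rw [cexp, cexp, e₁, e₂] <;> first | rfl | exact e | exact e.symm

omit hmany hk hr hrk hkr

/-- The main theorem. -/
theorem ThreeSizes.isSolvable : Group.IsSolvable G := by
  by_cases hmany : ∀ p q : ℕ, ∃ t, Pr G t ∧ t ≠ p ∧ t ≠ q
  swap
  · push Not at hmany
    obtain ⟨p, q, hpq⟩ := hmany
    refine (Group.isSolvable_iff_subgroup_quotient (center G)).2
      ⟨Group.isSolvable_of_comm fun a b => mul_comm' a b, ?_⟩
    refine PrimeOrders.isSolvable_of_primeFactors_card_le_two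
      ((Finset.card_le_card (t := {p, q}) fun d hd => ?_).trans Finset.card_le_two)
    obtain ⟨hdp, hdd, -⟩ := Nat.mem_primeFactors.1 hd
    rw [← index_eq_card] at hdd
    rw [Finset.mem_insert, Finset.mem_singleton]
    by_contra hne
    push Not at hne
    have := Fact.mk hdp
    obtain ⟨S⟩ : Nonempty (Sylow d G) := inferInstance
    refine S.not_dvd_index (hdd.trans (index_dvd_of_le fun x hx => by_contra fun hxZ => ?_))
    exact hne.2 (hpq d ⟨hdp, x, PE.of_isPGroup S.isPGroup' hx, hxZ⟩ hne.1)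
  by_cases himp : ∃ (p q : ℕ) (x y : G), p.Prime ∧ PE p x ∧ x ∉ center G ∧
      (¬ ∀ a ∈ centralizer ({x} : Set G), ∀ b ∈ centralizer ({x} : Set G), Commute a b) ∧
      q.Prime ∧ q ≠ p ∧ PE q y ∧ y ∉ center G ∧ y ∈ centralizer ({x} : Set G)
  · obtain ⟨p, q, x, y, hp, hx, hxZ, hna, hq, hqp, hy, hyZ, hyC⟩ := himp
    obtain ⟨l, s, b, w, hl, hb, hbZ, hb2, hs, hsl, hw, hwC, hwn⟩ :=
      h.exists_base hp hx hxZ hna hq hqp hy hyZ hyC
    obtain ⟨k, r, hk, -, hr, hrk, hkr⟩ := h.exists_prime_ratio hmany hl hb hbZ hb2 hs hsl hw hwC hwn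
    exact h.isSolvable_of_ratio hmany hk hr hrk hkr
  by_cases hpure : ∃ (q : ℕ) (x : G), q.Prime ∧ PE q x ∧ x ∉ center G ∧
      ∀ (d : ℕ) (y : G), d.Prime → d ≠ q → PE d y → y ∈ centralizer ({x} : Set G) → y ∈ center G
  · obtain ⟨q, x, hq, hx, hxZ, hxp⟩ := hpure
    -- other primes avoid the order of the centraliser of `x`
    have havoid : ∀ {p : ℕ} {v : G}, p.Prime → p ≠ q → PE p v → v ∉ center G →
        Nat.card (centralizer ({v} : Set G)) ≠ Nat.card (centralizer ({x} : Set G)) := by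
      intro p v hp hpq hv hvZ e
      have h1 := zexp_lt_of_mem hp (mem_cent.2 (Commute.refl v)) hv hvZ
      rw [cexp, e] at h1
      obtain ⟨y, hyC, hye, hyZ⟩ := exists_pe_of_lt (H := centralizer ({x} : Set G)) hp h1
      exact hyZ (hxp p y hp hpq hye hyC)
    have habel : ∀ {p : ℕ} {v : G}, p.Prime → p ≠ q → PE p v → v ∉ center G →
        ∀ a ∈ centralizer ({v} : Set G), ∀ b ∈ centralizer ({v} : Set G), Commute a b := by
      intro p v hp hpq hv hvZ
      by_contra hna
      obtain ⟨t, ⟨ht, w, hw, hwZ⟩, htp, htq⟩ := hmany p q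
      have h1 := havoid hp hpq hv hvZ
      have h2 := havoid ht htq hw hwZ
      have e : Nat.card (centralizer ({w} : Set G)) = Nat.card (centralizer ({v} : Set G)) := by
        rcases h.dich v hvZ with e₁ | e₁ <;> rcases h.dich w hwZ with e₂ | e₂ <;>
          rcases h.dich x hxZ with e₃ | e₃ <;> omega
      have h3 := zexp_lt_of_mem ht (mem_cent.2 (Commute.refl w)) hw hwZ
      rw [cexp, e] at h3
      obtain ⟨y, hyC, hye, hyZ⟩ := exists_pe_of_lt (H := centralizer ({v} : Set G)) ht h3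
      exact himp ⟨p, t, v, y, hp, hv, hvZ, hna, ht, htp, hye, hyZ, hyC⟩
    have hL : Local G q := fun p v hp hpq hv hvZ d y _ _ _ hc c hcv =>
      mem_cent.2 (habel hp hpq hv hvZ c hcv y (mem_cent.2 hc.symm))
    refine hL.isSolvable_of_equal hq (fun t => ?_) ?_
    · obtain ⟨u, hu, h1, h2⟩ := hmany q t
      exact ⟨u, hu, h1, h2⟩
    intro a b v w ha haq hv hvZ hb hbq hw hwZ t _ _
    have h1 := havoid ha haq hv hvZ
    have h2 := havoid hb hbq hw hwZ
    have e : Nat.card (centralizer ({v} : Set G)) = Nat.card (centralizer ({w} : Set G)) := by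
      rcases h.dich v hvZ with e₁ | e₁ <;> rcases h.dich w hwZ with e₂ | e₂ <;>
        rcases h.dich x hxZ with e₃ | e₃ <;> omega
    rw [cexp, cexp, e]
  push Not at hpure
  have hA : AbelianImpure G := by
    refine ⟨fun p v hp hv hvZ => by_contra fun hna => ?_, fun p v hp hv hvZ => ?_⟩
    · obtain ⟨d, y, hd, hdp, hy, hyC, hyZ⟩ := hpure p v hp hv hvZ
      exact himp ⟨p, d, v, y, hp, hv, hvZ, hna, hd, hdp, hy, hyZ, hyC⟩
    · obtain ⟨d, y, hd, hdp, hy, hyC, hyZ⟩ := hpure p v hp hv hvZ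
      exact ⟨d, y, hd, hdp, hy, hyZ, hyC⟩
  exact hA.isSolvable h.lt.ne h.dich h.ex₁ h.ex₂

omit h in
theorem isSolvable_of_three_indices (n₁ n₂ : ℕ) (h12 : n₂ < n₁) (h2 : 1 < n₂)
    (h : ∀ x : G, (centralizer ({x} : Set G)).index = 1 ∨ (centralizer ({x} : Set G)).index = n₂ ∨
      (centralizer ({x} : Set G)).index = n₁)
    (h₁ : ∃ x : G, (centralizer ({x} : Set G)).index = n₁)
    (h₂ : ∃ x : G, (centralizer ({x} : Set G)).index = n₂) : Group.IsSolvable G := by
  obtain ⟨x₁, hx₁⟩ := h₁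
  obtain ⟨x₂, hx₂⟩ := h₂
  have hne : ∀ x : G, 1 < (centralizer ({x} : Set G)).index → x ∉ center G := fun x hx hz => by
    rw [show centralizer ({x} : Set G) = ⊤ from eq_top_iff.2 fun g _ =>
      mem_cent.2 (mem_center_iff.1 hz g), index_top] at hx
    omega
  have hmul : ∀ x : G, Nat.card (centralizer ({x} : Set G)) *
      (centralizer ({x} : Set G)).index = Nat.card G := fun x => card_mul_index _
  have hc₁ := hmul x₁
  have hc₂ := hmul x₂
  rw [hx₁] at hc₁
  rw [hx₂] at hc₂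
  refine ThreeSizes.isSolvable (c₁ := Nat.card (centralizer ({x₁} : Set G)))
    (c₂ := Nat.card (centralizer ({x₂} : Set G)))
    ⟨?_, fun x hx => ?_, ⟨x₁, hne _ (by omega), rfl⟩, ⟨x₂, hne _ (by omega), rfl⟩⟩
  · have : 0 < Nat.card (centralizer ({x₁} : Set G)) := Nat.card_pos
    by_contra hle
    have := Nat.mul_le_mul_right n₂ (not_lt.1 hle)
    have := Nat.mul_lt_mul_of_pos_left h12 ‹0 < Nat.card (centralizer ({x₁} : Set G))›
    omega
  · rcases h x with e | e | e
    · exfalso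
      rw [index_eq_one] at e
      exact not_commute_all hx e
    · refine Or.inr (Nat.eq_of_mul_eq_mul_right (show 0 < n₂ by omega) ?_)
      rw [hc₂, ← hmul x, e]
    · refine Or.inl (Nat.eq_of_mul_eq_mul_right (show 0 < n₁ by omega) ?_)
      rw [hc₁, ← hmul x, e]

end CfsgLib.ThreeClassSizes
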